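import Cfsg.Agent.Small.Counting
import Cfsg.Agent.SelfCentralizing.Basic
import Cfsg.Agent.S4502
import Cfsg.Agent.S0133
import Mathlib.GroupTheory.Nilpotent

/-!
# Centraliser orders: local facts
-/

set_option autoImplicit false
set_option linter.unusedSectionVars false
set_option linter.style.haveILetI false

namespace CfsgLib.ClassNumberNine

open Subgroup

variable {G : Type*} [Group G] [Finite G]

theorem orderOf_dvd_card_centralizer {g z : G} (h : Commute z g) :
    orderOf z ∣ Nat.card (centralizer ({g} : Set G)) := by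
  have hz : z ∈ centralizer ({g} : Set G) := mem_centralizer_singleton_iff.2 h.eq
  rw [← Subgroup.orderOf_mk z hz]
  exact orderOf_dvd_natCard _

theorem card_centralizer_eq_of_isConj' {a b : G} (h : IsConj a b) :
    Nat.card (centralizer ({a} : Set G)) = Nat.card (centralizer ({b} : Set G)) := by
  have h1 := CfsgLib.Small.card_conjugates_mul_card_centralizer a
  have h2 := CfsgLib.Small.card_conjugates_mul_card_centralizer b
  have e : Nat.card {g : G // IsConj a g} = Nat.card {g : G // IsConj b g} :=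
    Nat.card_congr (Equiv.subtypeEquivRight fun g => ⟨fun ha => h.symm.trans ha, fun hb => h.trans hb⟩)
  have hpos : 0 < Nat.card {g : G // IsConj a g} :=
    Nat.card_pos_iff.2 ⟨⟨⟨a, IsConj.refl a⟩⟩, inferInstance⟩
  exact Nat.eq_of_mul_eq_mul_left hpos (by rw [h1, e, h2])

/-- An element of order `p` commutes with a subgroup of order `p²` if a Sylow subgroup is that large. -/
theorem sq_dvd_card_centralizer {p : ℕ} [Fact p.Prime] {y : G} (hy : orderOf y = p)
    (hsq : p ^ 2 ∣ Nat.card G) : p ^ 2 ∣ Nat.card (centralizer ({y} : Set G)) := by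
  classical
  have hp := (Fact.out : p.Prime)
  obtain ⟨P, hP⟩ := (IsPGroup.of_card (n := 1) (by rw [Nat.card_zpowers, hy, pow_one]) :
    IsPGroup p ↥(zpowers y)).exists_le_sylow
  have hyP : y ∈ (P : Subgroup G) := hP (mem_zpowers y)
  have hP2 : p ^ 2 ∣ Nat.card (P : Subgroup G) := P.pow_dvd_card_of_pow_dvd_card hsq
  haveI : Nontrivial (P : Subgroup G) := ⟨⟨y, hyP⟩, 1, fun e => by
    rw [show y = 1 from congrArg Subtype.val e, orderOf_one] at hy
    exact hp.one_lt.ne hy⟩
  set D : Subgroup G := (P : Subgroup G) ⊓ centralizer ({y} : Set G) with hD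
  have hyD : zpowers y ≤ D := by
    rw [zpowers_le]
    exact ⟨hyP, mem_centralizer_singleton_iff.2 rfl⟩
  refine (?_ : p ^ 2 ∣ Nat.card D).trans (card_dvd_of_le inf_le_right)
  have hne : zpowers y ≠ D := by
    intro he
    by_cases hc : (⟨y, hyP⟩ : (P : Subgroup G)) ∈ Subgroup.center (P : Subgroup G)
    · have hPD : (P : Subgroup G) ≤ D := fun a ha => ⟨ha, mem_centralizer_singleton_iff.2
        (congrArg Subtype.val (Subgroup.mem_center_iff.1 hc ⟨a, ha⟩))⟩
      have h1 := card_dvd_of_le hPD
      rw [← he, Nat.card_zpowers, hy] at h1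
      have := Nat.le_of_dvd hp.pos (hP2.trans h1)
      nlinarith [hp.two_le]
    · haveI := P.isPGroup'.center_nontrivial
      obtain ⟨w, hw⟩ := exists_ne (1 : Subgroup.center (P : Subgroup G))
      have hwD : ((w : (P : Subgroup G)) : G) ∈ zpowers y := by
        rw [he]
        exact ⟨(w : (P : Subgroup G)).2, mem_centralizer_singleton_iff.2
          (congrArg Subtype.val (Subgroup.mem_center_iff.1 w.2 ⟨y, hyP⟩)).symm⟩
      have hgen : zpowers ((w : (P : Subgroup G)) : G) = zpowers y := by
        apply Subgroup.eq_of_le_of_card_ge (zpowers_le.2 hwD)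
        rcases hp.eq_one_or_self_of_dvd _ (hy ▸ Nat.card_zpowers y ▸ card_dvd_of_le (zpowers_le.2 hwD)) with h | h
        · rw [Nat.card_zpowers, orderOf_eq_one_iff] at h
          exact absurd (Subtype.ext (Subtype.ext h)) hw
        · rw [h, Nat.card_zpowers, hy]
      refine hc (Subgroup.mem_center_iff.2 fun a => Subtype.ext ?_)
      have hcw : Commute (a : G) ((w : (P : Subgroup G)) : G) :=
        congrArg Subtype.val (Subgroup.mem_center_iff.1 w.2 a)
      obtain ⟨i, hi⟩ := mem_zpowers_iff.1 (hgen.symm ▸ mem_zpowers y :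
        y ∈ zpowers ((w : (P : Subgroup G)) : G))
      show (a : G) * y = y * (a : G)
      rw [← hi]
      exact (hcw.zpow_right i).eq
  obtain ⟨n, hn⟩ := IsPGroup.iff_card.1 (P.isPGroup'.to_le (inf_le_left : D ≤ _))
  rw [hn]
  refine Nat.pow_dvd_pow _ ?_
  by_contra hlt
  apply hne
  refine Subgroup.eq_of_le_of_card_ge hyD ?_
  rw [hn, Nat.card_zpowers, hy]
  calc p ^ n ≤ p ^ 1 := Nat.pow_le_pow_right hp.pos (by omega)
    _ = p := pow_one p

/-- In a centraliser `C(x)` whose intersection with `C(y)` has order `6`, `p²` does not divide the order. -/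
theorem not_sq_dvd_of_six {p : ℕ} [Fact p.Prime] {x y : G} (hy : orderOf y = p) (hxy : Commute y x)
    (hcard : Nat.card ↥(centralizer ({x} : Set G) ⊓ centralizer ({y} : Set G)) ∣ 6) :
    ¬ p ^ 2 ∣ Nat.card (centralizer ({x} : Set G)) := by
  intro hsq
  have hp := (Fact.out : p.Prime)
  let y' : centralizer ({x} : Set G) := ⟨y, mem_centralizer_singleton_iff.2 hxy.eq⟩
  have hy' : orderOf y' = p := by rw [← Subgroup.orderOf_coe]; exact hy
  have h := sq_dvd_card_centralizer hy' hsq
  have e : Nat.card (centralizer ({y'} : Set ↥(centralizer ({x} : Set G)))) =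
      Nat.card ↥(centralizer ({x} : Set G) ⊓ centralizer ({y} : Set G)) :=
    Nat.card_congr
      { toFun := fun a => ⟨(a.1 : G), a.1.2, mem_centralizer_singleton_iff.2
          (congrArg Subtype.val (mem_centralizer_singleton_iff.1 a.2))⟩
        invFun := fun a => ⟨⟨a.1, a.2.1⟩, mem_centralizer_singleton_iff.2
          (Subtype.ext (mem_centralizer_singleton_iff.1 a.2.2))⟩
        left_inv := fun a => rfl
        right_inv := fun a => rfl }
  rw [e] at h
  have := (h.trans hcard)
  have h4 := Nat.le_of_dvd (by norm_num) this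
  have : p ≤ 2 := by nlinarith [hp.two_le]
  obtain rfl : p = 2 := le_antisymm this hp.two_le
  norm_num at *

open SelfCentralizing in
/-- Sylow normaliser of a self-centralising subgroup of order `p`: `e + t ≤ k(G)`. -/
theorem relIndex_add_le {p : ℕ} [Fact p.Prime] {x : G} (h : Hyp G p x) :
    (zpowers x).relIndex h.norm +
      Nat.card {C : ConjClasses G // ∃ g ∈ C.carrier, orderOf g = p} ≤ Nat.card (ConjClasses G) := by
  classical
  obtain ⟨P, hP⟩ := h.exists_sylow
  haveI : Finite (ConjClasses G) := Quotient.finite _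
  haveI : Finite (ConjClasses ↥h.norm) := Quotient.finite _
  have hcount := Cfsg.Agent.S4502.result (G := G) p h.dvd_card h.not_sq_dvd P
  rw [hP] at hcount
  have hirr : Nat.card (Cfsg.IrrCharacter G) = Nat.card (ConjClasses G) := Cfsg.Agent.S0133.result
  haveI : Finite (Cfsg.IrrCharacter G) := Nat.finite_of_card_ne_zero (by
    rw [hirr]; exact Nat.card_pos.ne')
  have hle : Nat.card (ConjClasses ↥h.norm) ≤ Nat.card (ConjClasses G) := by
    rw [← hirr, ← hcount]
    exact Nat.card_le_card_of_injective (fun χ => χ.1) Subtype.val_injective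
  refine le_trans ?_ hle
  -- the normaliser has at least `e + t` classes
  set Z : Subgroup ↥h.norm := (zpowers x).subgroupOf h.norm with hZ
  haveI : Z.Normal := Subgroup.normal_in_normalizer
  set A := {C : ConjClasses G // ∃ g ∈ C.carrier, orderOf g = p}
  have hrep : ∀ C : A, ∃ z : ↥h.norm, z ∈ Z ∧ (z : G) ≠ 1 ∧ ConjClasses.mk (z : G) = C.1 := by
    rintro ⟨C, g, hg, hgo⟩
    obtain ⟨c, hc⟩ := h.exists_conj_of_card (H := zpowers g) (by rw [Nat.card_zpowers, hgo])
    have hmem := (hc g).1 (mem_zpowers g)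
    refine ⟨⟨c * g * c⁻¹, h.le_norm hmem⟩, mem_subgroupOf.2 hmem, fun e => ?_, ?_⟩
    · rw [conj_eq_one_iff.1 e, orderOf_one] at hgo
      exact (Fact.out : p.Prime).one_lt.ne hgo
    · refine Eq.trans ?_ (ConjClasses.mem_carrier_iff_mk_eq.1 hg)
      exact ConjClasses.mk_eq_mk_iff_isConj.2 (isConj_iff.2 ⟨c, rfl⟩).symm
  choose z hzZ hz1 hzC using hrep
  let Ψ : Option A ⊕ {q : ↥h.norm ⧸ Z // q ≠ 1} → ConjClasses ↥h.norm := fun s =>
    match s with
    | .inl none => ConjClasses.mk 1
    | .inl (some C) => ConjClasses.mk (z C)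
    | .inr q => ConjClasses.mk q.1.out
  have hquot : ∀ a b : ↥h.norm, ConjClasses.mk a = ConjClasses.mk b →
      (QuotientGroup.mk a : ↥h.norm ⧸ Z) = QuotientGroup.mk b := by
    intro a b hab
    obtain ⟨c, rfl⟩ := isConj_iff.1 (ConjClasses.mk_eq_mk_iff_isConj.1 hab)
    rw [eq_comm, QuotientGroup.eq_iff_div_mem, hZ, mem_subgroupOf, div_eq_mul_inv]
    simpa using h.commutator_norm_mem c.2 a.2
  have h1 : ∀ C : A, (QuotientGroup.mk (z C) : ↥h.norm ⧸ Z) = 1 := fun C =>
    (QuotientGroup.eq_one_iff _).2 (hzZ C)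
  have hG : ∀ a b : ↥h.norm, ConjClasses.mk a = ConjClasses.mk b →
      ConjClasses.mk (a : G) = ConjClasses.mk (b : G) := by
    intro a b hab
    obtain ⟨c, hc⟩ := isConj_iff.1 (ConjClasses.mk_eq_mk_iff_isConj.1 hab)
    exact ConjClasses.mk_eq_mk_iff_isConj.2 (isConj_iff.2 ⟨c, by rw [← hc]; rfl⟩)
  have hΨ : Function.Injective Ψ := by
    rintro ((_ | C) | ⟨q, hq⟩) ((_ | C') | ⟨q', hq'⟩) he
    · rfl
    · refine absurd ?_ (hz1 C')
      have := hG _ _ he.symm
      rw [ConjClasses.mk_eq_mk_iff_isConj, OneMemClass.coe_one, isConj_one_left] at this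
      exact this
    · refine absurd ?_ hq'
      have := hquot _ _ he
      rw [QuotientGroup.mk_one, QuotientGroup.out_eq'] at this
      exact this.symm
    · refine absurd ?_ (hz1 C)
      have := hG _ _ he
      rw [ConjClasses.mk_eq_mk_iff_isConj, OneMemClass.coe_one, isConj_one_left] at this
      exact this
    · have := hG _ _ he
      rw [hzC, hzC] at this
      rw [Subtype.ext this]
    · refine absurd ?_ hq'
      have := hquot _ _ he
      rw [h1, QuotientGroup.out_eq'] at this
      exact this.symm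
    · refine absurd ?_ hq
      have := hquot _ _ he
      rw [QuotientGroup.mk_one, QuotientGroup.out_eq'] at this
      exact this
    · refine absurd ?_ hq
      have := hquot _ _ he
      rw [h1, QuotientGroup.out_eq'] at this
      exact this
    · have := hquot _ _ he
      rw [QuotientGroup.out_eq', QuotientGroup.out_eq'] at this
      subst this
      rfl
  have hcard := Nat.card_le_card_of_injective Ψ hΨ
  haveI : Fintype A := Fintype.ofFinite _
  haveI : Fintype (↥h.norm ⧸ Z) := Fintype.ofFinite _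
  rw [Nat.card_sum, Nat.card_eq_fintype_card (α := Option A), Fintype.card_option,
    ← Nat.card_eq_fintype_card, Nat.card_eq_fintype_card (α := {q : ↥h.norm ⧸ Z // q ≠ 1}),
    Fintype.card_subtype_compl, Fintype.card_subtype_eq, ← Nat.card_eq_fintype_card] at hcard
  have : (zpowers x).relIndex h.norm = Nat.card (↥h.norm ⧸ Z) := rfl
  rw [this]
  have : 0 < Nat.card (↥h.norm ⧸ Z) := Nat.card_pos
  omega

end CfsgLib.ClassNumberNine
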