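import Cfsg.Agent.ClassNumberNine.Defs
import Mathlib.Data.Nat.Factors
import Mathlib.Data.Rat.Defs
import Mathlib.Algebra.BigOperators.Group.List.Basic
import Mathlib.Algebra.Order.BigOperators.Group.List
import Mathlib.Tactic.FieldSimp
import Mathlib.Tactic.Ring
import Mathlib.Tactic.Linarith
import Mathlib.Data.Rat.Cast.Order
import Mathlib.Algebra.Order.Field.Basic
import Mathlib.Data.Nat.Cast.Field
import Mathlib.Tactic.IntervalCases
import Mathlib.Tactic.Positivity

/-!
# Completeness of the enumeration
-/

set_option autoImplicit false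

namespace CfsgLib.ClassNumberNine

/-! ### Trial division -/

theorem pfacAux_spec : ∀ f d x : ℕ, 2 ≤ d → 2 ≤ x → x ≤ f + d →
    (∀ p, p.Prime → p ∣ x → d ≤ p) →
    (∀ y ∈ pfacAux f d x, y.Prime) ∧ (pfacAux f d x).prod = x := by
  intro f
  induction f with
  | zero =>
    intro d x hd hx hfx hmin
    have hp : x.Prime := by
      obtain ⟨p, hp, hpx⟩ := Nat.exists_prime_and_dvd (by omega : x ≠ 1)
      have h1 := hmin p hp hpx
      have h2 := Nat.le_of_dvd (by omega) hpx
      rwa [show x = p by omega]
    simpa [pfacAux] using hp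
  | succ f ih =>
    intro d x hd hx hfx hmin
    rw [pfacAux, if_neg (by omega)]
    split_ifs with h1 h2
    · refine ⟨fun y hy => ?_, by simp⟩
      rw [List.mem_singleton] at hy
      subst hy
      by_contra hnp
      obtain ⟨p, hp, hpx⟩ := Nat.exists_prime_and_dvd (by omega : y ≠ 1)
      obtain ⟨c, hc⟩ := hpx
      rcases Nat.lt_or_ge c 2 with hc2 | hc2
      · interval_cases c
        · simp at hc; omega
        · rw [mul_one] at hc; exact hnp (hc ▸ hp)
      · obtain ⟨q, hq, hqc⟩ := Nat.exists_prime_and_dvd (by omega : c ≠ 1)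
        have hpd := hmin p hp ⟨c, hc⟩
        have hqd := hmin q hq (hqc.trans ⟨p, by rw [hc, mul_comm]⟩)
        have := Nat.le_of_dvd (by omega) hqc
        nlinarith
    · have hdx : d ∣ x := Nat.dvd_of_mod_eq_zero h2
      have hdp : d.Prime := by
        obtain ⟨p, hp, hpd⟩ := Nat.exists_prime_and_dvd (by omega : d ≠ 1)
        have h := hmin p hp (hpd.trans hdx)
        have := Nat.le_of_dvd (by omega) hpd
        rwa [show d = p by omega]
      obtain ⟨c, hc⟩ := hdx
      have hq : x / d = c := by rw [hc, Nat.mul_div_cancel_left _ (by omega)]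
      have hcd : d ≤ c := by nlinarith
      have hcf : c ≤ f + d := by nlinarith
      obtain ⟨i1, i2⟩ := ih d c hd (by omega) hcf fun p hp hpc => hmin p hp
        (hpc.trans ⟨d, by rw [hc, mul_comm]⟩)
      rw [hq]
      refine ⟨fun y hy => ?_, by rw [List.prod_cons, i2, hc]⟩
      rcases List.mem_cons.1 hy with rfl | h
      · exact hdp
      · exact i1 y h
    · refine ih (d + 1) x (by omega) hx (by omega) fun p hp hpx => ?_
      rcases Nat.lt_or_ge d p with h | h
      · omega
      · exact absurd (by rw [show d = p by have := hmin p hp hpx; omega]; exact Nat.mod_eq_zero_of_dvd hpx) h2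

theorem pfac_perm {x : ℕ} (hx : 2 ≤ x) : (pfac x).Perm x.primeFactorsList := by
  obtain ⟨h1, h2⟩ := pfacAux_spec x 2 x le_rfl hx (by omega) fun p hp _ => hp.two_le
  exact Nat.primeFactorsList_unique h2 h1

theorem mem_pfac {x r : ℕ} (hx : 2 ≤ x) : r ∈ pfac x ↔ r.Prime ∧ r ∣ x := by
  rw [(pfac_perm hx).mem_iff, Nat.mem_primeFactorsList (by omega)]

theorem pfac_eq_of_prime {x : ℕ} (hx : x.Prime) : pfac x = [x] := by
  have := pfac_perm hx.two_le
  rwa [Nat.primeFactorsList_prime hx, List.perm_singleton] at this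

theorem prime_of_pfac {x y : ℕ} (hx : 2 ≤ x) (h : pfac x = [y]) : x.Prime ∧ y = x := by
  have h' := Nat.prod_primeFactorsList (n := x) (by omega)
  rw [← (pfac_perm hx).prod_eq, h, List.prod_singleton] at h'
  exact ⟨h' ▸ ((mem_pfac hx).1 (by rw [h]; exact List.mem_singleton_self y)).1, h'⟩

theorem mem_divsAux : ∀ f d b j : ℕ, 0 < b → d ≤ j → j ∣ b → j * j ≤ b → b < f + d →
    j ∈ divsAux f d b ∧ b / j ∈ divsAux f d b := by
  intro f
  induction f with
  | zero =>
    intro d b j hb hdj hjb hj2 hf
    nlinarith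
  | succ f ih =>
    intro d b j hb hdj hjb hj2 hf
    rw [divsAux, if_neg (by nlinarith)]
    rcases Nat.lt_or_ge d j with h | h
    · obtain ⟨i1, i2⟩ := ih (d + 1) b j hb h hjb hj2 (by omega)
      split_ifs with h2 <;> simp [i1, i2]
    · obtain rfl : d = j := le_antisymm hdj h
      rw [if_pos (Nat.mod_eq_zero_of_dvd hjb)]
      simp

theorem mem_divs {b j : ℕ} (hb : 0 < b) (hjb : j ∣ b) : j ∈ divsAux b 1 b := by
  have hj : 0 < j := Nat.pos_of_dvd_of_pos hjb hb
  obtain ⟨c, hc⟩ := hjb
  have hc0 : 0 < c := by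
    rcases Nat.eq_zero_or_pos c with rfl | h
    · simp at hc; omega
    · exact h
  rcases le_total j c with h | h
  · exact (mem_divsAux b 1 b j hb hj ⟨c, hc⟩ (by rw [hc]; exact Nat.mul_le_mul_left _ h) (by omega)).1
  · have := (mem_divsAux b 1 b c hb hc0 ⟨j, by rw [hc, mul_comm]⟩
      (by rw [hc]; exact Nat.mul_le_mul_right _ h) (by omega)).2
    rw [hc] at this ⊢
    rwa [Nat.mul_div_cancel _ hc0] at this

/-! ### Profiles -/

/-- What is known about the centraliser orders of a simple group with `k` classes. -/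
structure Prof (k N : ℕ) (L : List ℕ) : Prop where
  five_le : ∀ x ∈ L, 5 ≤ x
  dvd : ∀ x ∈ L, x ∣ N
  lt : ∀ x ∈ L, x < N
  prime : ∀ x ∈ L, x.Prime → x ≤ 19 ∧ (∀ y ∈ L, x ∣ y → y = x) ∧ primeOK k L x = true
  composite : ∀ x ∈ L, ∃ r, r.Prime ∧ r ∣ x ∧ ∀ q, q.Prime → q ∣ x → q ≠ r →
    triple L (r * q) = true
  six : sixOK N L = true
  sylow : sylowOK N L = true
  small : 6000 ≤ N ∨ N ∈ smallOrders

variable {k N : ℕ}

theorem cnt_eq_count {L : List ℕ} {x : ℕ} (h : ∀ y ∈ L, x ∣ y → y = x) : cnt L x = L.count x := by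
  rw [cnt, List.count, List.countP_congr]
  intro y hy
  simp only [beq_iff_eq]
  exact ⟨fun h1 => h y hy (Nat.dvd_of_mod_eq_zero h1), fun h1 => by rw [h1, Nat.mod_self]⟩

theorem Prof.final_eq {L : List ℕ} (hP : Prof k N L) : final k N L = true := by
  unfold final
  simp only [Bool.and_eq_true, Bool.or_eq_true, decide_eq_true_eq, List.contains_iff_mem,
    List.all_eq_true]
  refine ⟨⟨⟨hP.small, fun x hx => ?_⟩, hP.six⟩, hP.sylow⟩
  have hx2 : 2 ≤ x := le_trans (by norm_num) (hP.five_le x hx)
  split
  · next y hy =>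
    obtain ⟨hp, -⟩ := prime_of_pfac hx2 hy
    obtain ⟨h1, h2, h3⟩ := hP.prime x hx hp
    simp [h1, cnt_eq_count h2, h3]
  · obtain ⟨r, hr, hrx, hq⟩ := hP.composite x hx
    simp only [List.any_eq_true, List.all_eq_true, Bool.or_eq_true, beq_iff_eq]
    refine ⟨r, (mem_pfac hx2).2 ⟨hr, hrx⟩, fun q hq' => ?_⟩
    by_cases h : q = r
    · exact Or.inl h
    · exact Or.inr (hq q ((mem_pfac hx2).1 hq').1 ((mem_pfac hx2).1 hq').2 h)

theorem three_le_cnt_of_triple {L : List ℕ} {m : ℕ} (h : triple L m = true) : 3 ≤ cnt L m := by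
  simp only [triple, List.any_eq_true, Bool.and_eq_true, beq_iff_eq, decide_eq_true_eq] at h
  obtain ⟨y, -, hy, h3⟩ := h
  refine h3.trans (List.countP_mono_left fun z _ hz => ?_)
  simp only [beq_iff_eq] at hz ⊢
  exact Nat.mod_eq_zero_of_dvd ((Nat.dvd_of_mod_eq_zero hy).trans (Nat.dvd_of_mod_eq_zero hz))

theorem pre_of_prof {S L : List ℕ} (hsort : (S ++ L).Pairwise (fun a b => b ≤ a))
    (hP : Prof k N (S ++ L)) : pre k L S.length = true := by
  unfold pre
  simp only [List.all_eq_true]
  intro x hx
  have hxF : x ∈ S ++ L := List.mem_append.2 (Or.inr hx)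
  have hx2 : 2 ≤ x := le_trans (by norm_num) (hP.five_le x hxF)
  split
  · next y hy =>
    obtain ⟨hp, -⟩ := prime_of_pfac hx2 hy
    obtain ⟨h1, h2, h3⟩ := hP.prime x hxF hp
    have hc : cnt L x = L.count x :=
      cnt_eq_count fun z hz h => h2 z (List.mem_append.2 (Or.inr hz)) h
    simp only [Bool.and_eq_true, decide_eq_true_eq, beq_iff_eq, Bool.or_eq_true]
    refine ⟨⟨h1, hc⟩, ?_⟩
    match L, hx with
    | z :: L', hx =>
      by_cases hz : z = x
      · exact Or.inl (by simp [hz])
      · refine Or.inr ?_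
        have hxz : x < z := by
          rcases List.mem_cons.1 hx with h | h
          · exact absurd h.symm hz
          · have := (List.pairwise_cons.1 (List.pairwise_append.1 hsort).2.1).1 x h
            omega
        have h0 : S.count x = 0 := by
          rw [List.count_eq_zero]
          intro hxS
          have := (List.pairwise_append.1 hsort).2.2 x hxS z (List.mem_cons_self ..)
          omega
        unfold primeOK at h3 ⊢
        rwa [List.count_append, h0, zero_add] at h3
  · obtain ⟨r, hr, hrx, hq⟩ := hP.composite x hxF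
    simp only [List.any_eq_true, List.all_eq_true, Bool.or_eq_true, beq_iff_eq, decide_eq_true_eq]
    refine ⟨r, (mem_pfac hx2).2 ⟨hr, hrx⟩, fun q hq' => ?_⟩
    by_cases h : q = r
    · exact Or.inl h
    · right
      have h3 := three_le_cnt_of_triple (hq q ((mem_pfac hx2).1 hq').1 ((mem_pfac hx2).1 hq').2 h)
      rw [cnt, List.countP_append] at h3
      have : S.countP (fun y => y % (r * q) == 0) ≤ S.length := List.countP_le_length
      unfold cnt
      omega

theorem recip_le {m lo : ℕ} (h : lo ≤ m) (h0 : 0 < lo) : (1 : ℚ) / m ≤ 1 / lo :=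
  one_div_le_one_div_of_le (by exact_mod_cast h0) (by exact_mod_cast h)

/-- Soundness of the enumeration. -/
theorem target_of_srch : ∀ (rem : ℕ) (L : List ℕ) (a b lo : ℕ), srch k rem L a b lo = true →
    Nat.Coprime a b → 0 < b → ∀ S : List ℕ, S.length = rem → (∀ m ∈ S, lo ≤ m) →
    (S ++ L).Pairwise (fun x y => y ≤ x) → Prof k N (S ++ L) →
    (a : ℚ) / b = (S.map fun m : ℕ => (1 : ℚ) / (m : ℚ)).sum + 1 / (N : ℚ) →
    target N (S ++ L) = true := by
  intro rem
  induction rem with
  | zero => intro L a b lo h; simp [srch] at h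
  | succ r ih =>
    intro L a b lo h hab hb S hS hlo hsort hP hsum
    have hpre := pre_of_prof hsort hP
    rw [hS] at hpre
    rcases S.eq_nil_or_concat with rfl | ⟨S', m, rfl⟩
    · simp at hS
    rw [List.concat_eq_append] at hS hlo hsort hP hsum ⊢
    have hmS : m ∈ S' ++ [m] ++ L := by simp
    have hm5 := hP.five_le m hmS
    have hmN := hP.lt m hmS
    have hN0 : 0 < N := by omega
    have hlom : lo ≤ m := hlo m (by simp)
    have hm0 : (0 : ℚ) < m := by exact_mod_cast (by omega : 0 < m)
    have hN0' : (0 : ℚ) < N := by exact_mod_cast hN0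
    have hb' : (0 : ℚ) < b := by exact_mod_cast hb
    have hS' : S'.length = r := by simpa using hS
    rw [List.map_append, List.sum_append] at hsum
    simp only [List.map_cons, List.map_nil, List.sum_cons, List.sum_nil, add_zero] at hsum
    match r, hS', ih, h, hpre with
    | 0, hS', _, h, hpre =>
      rw [List.length_eq_zero_iff] at hS'
      subst hS'
      simp only [List.map_nil, List.sum_nil, zero_add] at hsum
      simp only [List.nil_append, List.singleton_append] at hP ⊢
      simp only [srch, Bool.or_eq_true, Bool.not_eq_true'] at h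
      rcases h with h | h
      · rw [hpre] at h; exact absurd h (by simp)
      obtain ⟨j, rfl⟩ : m ∣ N := hP.dvd m hmS
      have hj : 2 ≤ j := by
        rcases Nat.lt_or_ge j 2 with h' | h'
        · interval_cases j <;> omega
        · exact h'
      have heq : a * j * m = b * (j + 1) := by
        have h' : (a : ℚ) * j * m = b * (j + 1) := by
          push_cast at hsum
          field_simp at hsum
          nlinarith [hsum]
        exact_mod_cast h'
      have hjb : j ∣ b :=
        (Nat.Coprime.dvd_of_dvd_mul_right (by simp : Nat.Coprime j (j + 1))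
          ⟨a * m, by rw [← heq]; ring⟩)
      have haj : a ∣ j + 1 :=
        (Nat.Coprime.dvd_of_dvd_mul_left hab ⟨j * m, by rw [← heq]; ring⟩)
      simp only [leaf, List.all_eq_true] at h
      have hh := h j (mem_divs hb hjb)
      have ha : 0 < a := Nat.pos_of_dvd_of_pos haj (by omega)
      have hval : b * (j + 1) / (a * j) = m := by
        rw [← heq, Nat.mul_div_cancel_left]
        exact Nat.mul_pos ha (by omega)
      rw [if_neg (by simp [Nat.mod_eq_zero_of_dvd haj]), hval, if_neg (by omega)] at hh
      have hdvd : L.any (fun y => j * m % y != 0) = false := by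
        rw [List.any_eq_false]
        intro y hy
        have := hP.dvd y (by simp [hy])
        rw [mul_comm] at this
        simp [Nat.mod_eq_zero_of_dvd this]
      rw [hdvd, if_neg (by simp), mul_comm j m, hP.final_eq] at hh
      simpa using hh
    | r + 1, hS', ih, h, hpre =>
      simp only [srch, Bool.or_eq_true, Bool.not_eq_true'] at h
      rcases h with h | h
      · rw [hpre] at h; exact absurd h (by simp)
      have hpos : ∀ x ∈ S'.map (fun m : ℕ => (1 : ℚ) / (m : ℚ)), 0 ≤ x := by
        intro x hx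
        obtain ⟨y, -, rfl⟩ := List.mem_map.1 hx
        positivity
      have hub : ∀ x ∈ S'.map (fun m : ℕ => (1 : ℚ) / (m : ℚ)), x ≤ 1 / (m : ℚ) := by
        intro x hx
        obtain ⟨y, hy, rfl⟩ := List.mem_map.1 hx
        refine recip_le ?_ (by omega)
        have := (List.pairwise_append.1 (List.pairwise_append.1 hsort).1).2.2 y hy m (by simp)
        exact this
      have h1 : (S'.map (fun m : ℕ => (1 : ℚ) / (m : ℚ))).sum ≤ (r + 1 : ℕ) * (1 / (m : ℚ)) := by
        have := List.sum_le_card_nsmul _ _ hub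
        simpa [hS', nsmul_eq_mul] using this
      have h0 := List.sum_nonneg hpos
      have hN1 : (1 : ℚ) / N ≤ 1 / m := recip_le hmN.le (by omega)
      have hN2 : (0 : ℚ) < 1 / N := by positivity
      have hlt : b < a * m := by
        have : (1 : ℚ) / m < a / b := by linarith
        rw [div_lt_div_iff₀ hm0 hb', one_mul] at this
        exact_mod_cast this
      have hle : a * m ≤ (r + 3) * b := by
        have : (a : ℚ) / b ≤ (r + 3 : ℕ) * (1 / (m : ℚ)) := by
          push_cast at h1 ⊢
          linarith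
        rw [mul_one_div, div_le_div_iff₀ hb' hm0] at this
        exact_mod_cast this
      have ha : 0 < a := Nat.pos_of_ne_zero fun e => by simp [e] at hlt
      have hmem : m ∈ List.range' lo ((r + 3) * b / a + 1 - lo) := by
        rw [List.mem_range'_1]
        have := (Nat.le_div_iff_mul_le ha).2 (by rwa [mul_comm] : m * a ≤ (r + 3) * b)
        omega
      simp only [List.all_eq_true] at h
      have hh := h m hmem
      rw [if_neg (by omega)] at hh
      set g := Nat.gcd (a * m - b) (b * m) with hg
      have hg0 : 0 < g := Nat.gcd_pos_of_pos_left _ (by omega)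
      have hgb : g ∣ b * m := Nat.gcd_dvd_right _ _
      have hga : g ∣ a * m - b := Nat.gcd_dvd_left _ _
      rw [List.append_assoc, List.singleton_append] at hsort hP ⊢
      refine ih (m :: L) _ _ m hh (Nat.coprime_div_gcd_div_gcd hg0)
        (Nat.div_pos (Nat.le_of_dvd (Nat.mul_pos hb (by omega)) hgb) hg0) S' hS'
        (fun y hy => (List.pairwise_append.1 hsort).2.2 y hy m (by simp)) hsort hP ?_
      have hg0' : (g : ℚ) ≠ 0 := by exact_mod_cast hg0.ne'
      rw [Nat.cast_div hga hg0', Nat.cast_div hgb hg0', div_div_div_cancel_right₀ hg0',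
        Nat.cast_sub hlt.le]
      push_cast
      rw [sub_div, mul_div_mul_right _ _ hm0.ne', show (b : ℚ) / (b * m) = 1 / m by field_simp]
      linarith

end CfsgLib.ClassNumberNine
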