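import Mathlib.Data.List.Sort
import Mathlib.Data.Nat.GCD.Basic

/-!
# An enumeration of class equations

`1 = 1 / N + ∑ 1 / n_i` where the `n_i` are the centraliser orders of the nonidentity classes.
The lists are built in descending order; `k` is the class number.
-/

set_option autoImplicit false

namespace CfsgLib.ClassNumberNine

/-- Prime divisors (with repetition) by trial division from `d` on. -/
def pfacAux : ℕ → ℕ → ℕ → List ℕ
  | 0, _, x => [x]
  | f + 1, d, x =>
    if x ≤ 1 then []
    else if x < d * d then [x]
    else if x % d = 0 then d :: pfacAux f d (x / d)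
    else pfacAux f (d + 1) x

/-- Prime divisors with repetition. -/
def pfac (x : ℕ) : List ℕ := pfacAux x 2 x

/-- The number of entries divisible by `m`. -/
def cnt (L : List ℕ) (m : ℕ) : ℕ := L.countP fun y => y % m == 0

/-- A prime entry is a self-centralising Sylow subgroup. -/
def primeOK (k : ℕ) (L : List ℕ) (x : ℕ) : Bool :=
  let t := L.count x
  (x - 1) % t == 0 && decide (2 * t ≤ x - 1) && decide ((x - 1) / t + t ≤ k)

/-- Conditions on a partial list with `rem` entries still to come (all at least the head). -/
def pre (k : ℕ) (L : List ℕ) (rem : ℕ) : Bool :=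
  L.all fun x =>
    match pfac x with
    | [_] => decide (x ≤ 19) && (cnt L x == L.count x) && (L.head? == some x || primeOK k L x)
    | F => F.any fun r => F.all fun q => q == r || decide (3 ≤ cnt L (r * q) + rem)

/-- Some entry divisible by `m` divides at least three entries. -/
def triple (L : List ℕ) (m : ℕ) : Bool :=
  L.any fun y => y % m == 0 && decide (3 ≤ cnt L y)

/-- Entries equal to `6` belong to elements of order `6`. -/
def sixOK (N : ℕ) (L : List ℕ) : Bool :=
  L.count 6 == 0 ||
    (decide (0 < cnt L 12) && decide (2 ≤ L.countP fun y => y % 6 == 0 && y % 4 != 0) &&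
      (N % 9 != 0 || decide (L.count 6 ≤ 2 * L.countP fun y => y % 12 == 0 && y % 9 != 0)))

/-- The largest power of `p` dividing `N`. -/
def ppart : ℕ → ℕ → ℕ → ℕ
  | 0, _, _ => 1
  | f + 1, p, N => if N % p = 0 then p * ppart f p (N / p) else 1

/-- Enough `p`-elements for a Sylow `p`-subgroup that is not normal. -/
def sylowOK (N : ℕ) (L : List ℕ) : Bool :=
  [2, 3, 11, 13, 19, 31].all fun p => N % (p * p) != 0 ||
    decide (p * ppart N p N ≤ 1 + ((L.filter fun y => y % (p * p) == 0).map (N / ·)).sum)

/-- The orders of the simple groups of order less than `6000`. -/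
def smallOrders : List ℕ := [60, 168, 360, 504, 660, 1092, 2448, 2520, 3420, 4080, 5616]

/-- All conditions on a full list. -/
def final (k N : ℕ) (L : List ℕ) : Bool :=
  (decide (6000 ≤ N) || smallOrders.contains N) &&
    (L.all fun x =>
      match pfac x with
      | [_] => decide (x ≤ 19) && (cnt L x == L.count x) && primeOK k L x
      | F => F.any fun r => F.all fun q => q == r || triple L (r * q)) &&
    sixOK N L && sylowOK N L

/-- The lists we are left with. -/
def target (N : ℕ) (L : List ℕ) : Bool :=
  [168, 360, 504, 1092, 2520].contains N ||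
    (N == 20160 &&
      (L.all fun y => y % 4 != 0 || [8, 16, 64].contains y) && cnt L 4 == 3)

/-- Divisors by trial division. -/
def divsAux : ℕ → ℕ → ℕ → List ℕ
  | 0, _, _ => []
  | f + 1, d, b =>
    if b < d * d then []
    else if b % d = 0 then d :: b / d :: divsAux f (d + 1) b
    else divsAux f (d + 1) b

/-- The last entry `m`, where `a / b = 1 / m + 1 / N`. -/
def leaf (k : ℕ) (L : List ℕ) (a b lo : ℕ) : Bool :=
  (divsAux b 1 b).all fun j =>
    if (j + 1) % a != 0 then true
    else
      let m := b * (j + 1) / (a * j)
      let N := j * m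
      if m < lo then true
      else if L.any (fun y => N % y != 0) then true
      else !(final k N (m :: L)) || target N (m :: L)

/-- The enumeration: `rem` entries `≥ lo` and `1 / N` must sum to `a / b`. -/
def srch (k : ℕ) : ℕ → List ℕ → ℕ → ℕ → ℕ → Bool
  | 0, _, _, _, _ => false
  | 1, L, a, b, lo => !(pre k L 1) || leaf k L a b lo
  | rem + 2, L, a, b, lo =>
    !(pre k L (rem + 2)) ||
      ((List.range' lo ((rem + 3) * b / a + 1 - lo)).all fun m =>
        if a * m ≤ b then true
        else
          let g := Nat.gcd (a * m - b) (b * m)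
          srch k (rem + 1) (m :: L) ((a * m - b) / g) (b * m / g) m)

end CfsgLib.ClassNumberNine
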