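import Cfsg.Agent.ClassNumberNine.Defs

set_option autoImplicit false

namespace CfsgLib.ClassNumberNine

theorem srch_five : srch 9 8 [] 1 1 5 = true := by decide +kernel

end CfsgLib.ClassNumberNine
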