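import Cfsg.Agent.ClassNumberNine.Profile
import Cfsg.Agent.ClassNumberNine.Run
import Cfsg.Agent.ClassCount.Classes
import Cfsg.Agent.Classification.SmallGraph.Simple
import Cfsg.Agent.Linear.Perfect
import Cfsg.Agent.S3669
import Cfsg.Agent.S3280
import Cfsg.Agent.S0348
import Cfsg.Agent.S0498
import Cfsg.Agent.S0984
import Cfsg.Agent.S1011
import Cfsg.Agent.S0495

/-!
# Simple groups with nine classes
-/

set_option autoImplicit false
set_option linter.style.haveILetI false

namespace CfsgLib.ClassNumberNine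

universe u

theorem card_classes_congr {G H : Type*} [Group G] [Group H] (e : G ≃* H) :
    Nat.card (ConjClasses G) = Nat.card (ConjClasses H) := by
  refine Nat.card_congr (Equiv.ofBijective (ConjClasses.map e.toMonoidHom) ⟨?_, ?_⟩)
  · intro a b h
    obtain ⟨x, rfl⟩ := a.exists_rep
    obtain ⟨y, rfl⟩ := b.exists_rep
    rw [show ConjClasses.map e.toMonoidHom (ConjClasses.mk x) = ConjClasses.mk (e x) from rfl,
      show ConjClasses.map e.toMonoidHom (ConjClasses.mk y) = ConjClasses.mk (e y) from rfl,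
      ConjClasses.mk_eq_mk_iff_isConj, isConj_iff] at h
    obtain ⟨c, hc⟩ := h
    rw [ConjClasses.mk_eq_mk_iff_isConj, isConj_iff]
    exact ⟨e.symm c, e.injective (by simpa using hc)⟩
  · intro c
    obtain ⟨y, rfl⟩ := c.exists_rep
    exact ⟨ConjClasses.mk (e.symm y), congrArg ConjClasses.mk (e.apply_symm_apply y)⟩

/-- `PSL₂(7)` and `PSL₂(9)` have fewer than nine classes. -/
theorem card_classes_psl_lt {F : Type*} [Field F] [Fintype F]
    (h : Fintype.card F = 7 ∨ Fintype.card F = 9) :
    Nat.card (ConjClasses (Matrix.ProjectiveSpecialLinearGroup (Fin 2) F)) < 9 := by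
  have h2 := (ClassCount.card_classes_PSL (F := F) (n := 2)).2
  rcases h with h | h <;> rw [h] at h2
  · have hb : ClassCount.pslBound 7 2 ≤ 17 := by decide +kernel
    rw [show Nat.gcd 2 (7 - 1) = 2 from rfl] at h2
    omega
  · have hb : ClassCount.pslBound 9 2 ≤ 17 := by decide +kernel
    rw [show Nat.gcd 2 (9 - 1) = 2 from rfl] at h2
    omega

theorem card_galois_nine [Fintype (GaloisField 3 2)] : Fintype.card (GaloisField 3 2) = 9 := by
  rw [← Nat.card_eq_fintype_card, GaloisField.card 3 2 (by norm_num)]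
  norm_num

variable {G : Type u} [Group G] [Finite G]

theorem ne_nine_of_card [IsSimpleGroup G] (h : Nat.card G = 168 ∨ Nat.card G = 360) :
    Nat.card (ConjClasses G) ≠ 9 := by
  haveI : Fact (Nat.Prime 7) := ⟨by norm_num⟩
  haveI : Fact (Nat.Prime 3) := ⟨by norm_num⟩
  rcases h with h | h
  · obtain ⟨e⟩ := Cfsg.Agent.S0495.result h (F := ZMod 7) (ZMod.card 7)
    rw [card_classes_congr e]
    exact (card_classes_psl_lt (F := ZMod 7) (Or.inl (ZMod.card 7))).ne
  · letI := Fintype.ofFinite (GaloisField 3 2)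
    haveI : IsSimpleGroup (Matrix.ProjectiveSpecialLinearGroup (Fin 2) (GaloisField 3 2)) :=
      Linear.isSimpleGroup_PSL_of 2 le_rfl fun _ => by rw [card_galois_nine]; norm_num
    have hc : Nat.card (Matrix.ProjectiveSpecialLinearGroup (Fin 2) (GaloisField 3 2)) = 360 := by
      have := Linear.card_PSL_two_odd (F := GaloisField 3 2) (by rw [card_galois_nine]; decide)
      rw [card_galois_nine] at this
      omega
    obtain ⟨e⟩ := Classification.SmallGraph.nonempty_iso h hc (by simp)
    rw [card_classes_congr e]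
    exact (card_classes_psl_lt (Or.inr card_galois_nine)).ne

/-! ### Elements of order four in `PSL₃(4)` -/

section PSLThree

variable {F : Type*} [Field F] [Fintype F]

/-- A regular unipotent element. -/
def uni (c : F) : Matrix.SpecialLinearGroup (Fin 3) F :=
  ⟨!![1, 1, 0; 0, 1, c; 0, 0, 1], by simp [Matrix.det_fin_three]⟩

theorem scalar_of_mem_center {z : Matrix.SpecialLinearGroup (Fin 3) F}
    (hz : z ∈ Subgroup.center (Matrix.SpecialLinearGroup (Fin 3) F)) :
    ∃ r : F, r ^ 3 = 1 ∧ (z : Matrix (Fin 3) (Fin 3) F) = r • 1 := by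
  obtain ⟨r, hr, he⟩ := Matrix.SpecialLinearGroup.mem_center_iff.1 hz
  refine ⟨r, by simpa using hr, ?_⟩
  rw [← he, Matrix.scalar_apply, Matrix.smul_one_eq_diagonal]

theorem eq_of_isConj_uni (hF : Fintype.card F = 4) {a b : F} (ha : a ≠ 0) (hb : b ≠ 0)
    (h : IsConj (QuotientGroup.mk (uni a) : Matrix.ProjectiveSpecialLinearGroup (Fin 3) F)
      (QuotientGroup.mk (uni b))) : a = b := by
  obtain ⟨c, hc⟩ := isConj_iff.1 h
  obtain ⟨g, rfl⟩ := QuotientGroup.mk_surjective c
  rw [← QuotientGroup.mk_mul, ← QuotientGroup.mk_inv, ← QuotientGroup.mk_mul, QuotientGroup.eq] at hc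
  obtain ⟨r, hr, he⟩ := scalar_of_mem_center hc
  -- `g u_a = r⁻¹ u_b g`
  have hm : r • ((g : Matrix (Fin 3) (Fin 3) F) * (uni a : Matrix (Fin 3) (Fin 3) F)) =
      (uni b : Matrix (Fin 3) (Fin 3) F) * (g : Matrix (Fin 3) (Fin 3) F) := by
    have e1 : uni b = (g * uni a * g⁻¹) * ((g * uni a * g⁻¹)⁻¹ * uni b) := by group
    conv_rhs => rw [e1]
    rw [Matrix.SpecialLinearGroup.coe_mul, he, Matrix.mul_smul, Matrix.mul_one, Matrix.smul_mul]
    congr 1
    rw [← Matrix.SpecialLinearGroup.coe_mul, ← Matrix.SpecialLinearGroup.coe_mul, inv_mul_cancel_right]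
  have e := fun i j => congrFun (congrFun hm i) j
  have e20 := e 2 0
  have e10 := e 1 0
  have e00 := e 0 0
  have e21 := e 2 1
  have e01 := e 0 1
  have e11 := e 1 1
  have e12 := e 1 2
  have e22 := e 2 2
  simp [uni, Matrix.mul_apply, Fin.sum_univ_three, Matrix.vecHead, Matrix.vecTail] at e20 e10 e00 e21 e01 e11 e12 e22
  set x := (g : Matrix (Fin 3) (Fin 3) F) with hx
  have hdet : x.det = 1 := g.2
  have hr0 : r ≠ 0 := fun h0 => by simp [h0] at hr
  -- the first column and the eigenvalue
  have hr1 : r = 1 := by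
    by_contra hne
    have hne' : r - 1 ≠ 0 := sub_ne_zero.2 hne
    have h20 : x 2 0 = 0 := by
      have : (r - 1) * x 2 0 = 0 := by linear_combination e20
      exact (mul_eq_zero.1 this).resolve_left hne'
    have h10 : x 1 0 = 0 := by
      rw [h20] at e10
      have : (r - 1) * x 1 0 = 0 := by linear_combination e10
      exact (mul_eq_zero.1 this).resolve_left hne'
    have h00 : x 0 0 = 0 := by
      rw [h10] at e00
      have : (r - 1) * x 0 0 = 0 := by linear_combination e00
      exact (mul_eq_zero.1 this).resolve_left hne'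
    rw [Matrix.det_fin_three, h00, h10, h20] at hdet
    simp at hdet
  subst hr1
  simp only [one_mul] at e20 e10 e00 e21 e01 e11 e12 e22
  have h20 : x 2 0 = 0 := by
    have : b * x 2 0 = 0 := by linear_combination -e10
    exact (mul_eq_zero.1 this).resolve_left hb
  have h10 : x 1 0 = 0 := by linear_combination -e00
  have h21 : x 2 1 = 0 := by
    have : a * x 2 1 = 0 := by linear_combination e22
    exact (mul_eq_zero.1 this).resolve_left ha
  have h11 : x 1 1 = x 0 0 := by linear_combination -e01
  have h22 : b * x 2 2 = a * x 1 1 := by linear_combination -e12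
  rw [Matrix.det_fin_three, h10, h20, h21] at hdet
  simp only [mul_zero, zero_mul, sub_zero, add_zero] at hdet
  have h3 : x 0 0 ^ 3 = 1 := by
    have hne : x 0 0 ≠ 0 := fun h0 => by simp [h0] at hdet
    have := FiniteField.pow_card_sub_one_eq_one _ hne
    rwa [hF] at this
  have : b = a := by
    linear_combination (-b) * hdet + (x 0 0 * x 1 1) * h22 + (a * x 0 0) * (x 1 1 + x 0 0) * h11 + a * h3
  exact this.symm

theorem charP_two_of_card (hF : Fintype.card F = 4) : CharP F 2 := by
  obtain ⟨p, hp⟩ := CharP.exists F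
  haveI := hp
  obtain ⟨n, hpp, hn⟩ := FiniteField.card F p
  rw [hF] at hn
  have h2 : p ∣ 4 := hn ▸ dvd_pow_self p n.ne_zero
  have hle := Nat.le_of_dvd (by norm_num) h2
  have := hpp.two_le
  interval_cases p
  · exact hp
  · norm_num at h2
  · norm_num at hpp

theorem orderOf_uni (hF : Fintype.card F = 4) {c : F} (hc : c ≠ 0) :
    orderOf (QuotientGroup.mk (uni c) : Matrix.ProjectiveSpecialLinearGroup (Fin 3) F) = 4 := by
  haveI := charP_two_of_card hF
  have h2 : (2 : F) = 0 := by exact_mod_cast CharP.cast_eq_zero F 2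
  have hsq : ((uni c ^ 2 : Matrix.SpecialLinearGroup (Fin 3) F) : Matrix (Fin 3) (Fin 3) F) =
      !![1, 0, c; 0, 1, 0; 0, 0, 1] := by
    rw [sq, Matrix.SpecialLinearGroup.coe_mul]
    ext i j
    fin_cases i <;> fin_cases j <;>
      simp [uni, Matrix.mul_apply, Fin.sum_univ_three] <;>
      linear_combination (norm := ring_nf) (0 : F) * h2 <;> simp [h2]
  refine orderOf_eq_prime_pow (p := 2) (n := 1) ?_ ?_
  · intro h
    rw [show (2 : ℕ) ^ 1 = 2 from rfl, ← QuotientGroup.mk_pow, QuotientGroup.eq_one_iff] at h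
    obtain ⟨r, -, he⟩ := scalar_of_mem_center h
    rw [hsq] at he
    have := congrFun (congrFun he 0) 2
    simp at this
    exact hc this
  · rw [show (2 : ℕ) ^ (1 + 1) = 2 * 2 from rfl, ← QuotientGroup.mk_pow, QuotientGroup.eq_one_iff]
    have : uni c ^ (2 * 2) = 1 := by
      apply Subtype.ext
      rw [pow_mul, sq, Matrix.SpecialLinearGroup.coe_mul, hsq, Matrix.SpecialLinearGroup.coe_one]
      ext i j
      fin_cases i <;> fin_cases j <;> simp [Matrix.mul_apply, Fin.sum_univ_three] <;>
        linear_combination c * h2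
    rw [this]
    exact one_mem _

end PSLThree

/-- The leftover of order `20160` does not occur. -/
theorem false_of_20160 [IsSimpleGroup G] (hG : ¬ IsMulCommutative G) {L : List ℕ}
    (hL : (L : Multiset ℕ) = cents G) (hcard : Nat.card G = 20160)
    (h4 : ∀ y ∈ L, 4 ∣ y → y ∈ [8, 16, 64]) (hcnt : cnt L 4 = 3) : False := by
  classical
  haveI : Fact (Nat.Prime 2) := ⟨Nat.prime_two⟩
  have hinv : ∀ t : G, orderOf t = 2 → 4 ∣ Nat.card (Subgroup.centralizer ({t} : Set G)) := fun t ht =>
    sq_dvd_card_centralizer ht (by rw [hcard]; norm_num)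
  have hCIT : ∀ t : G, orderOf t = 2 → IsPGroup 2 (Subgroup.centralizer ({t} : Set G)) := by
    intro t ht
    have hmem := (mem_list hL).2 ⟨t, ne_one_of_orderOf ht (by norm_num), rfl⟩
    have h := h4 _ hmem (hinv t ht)
    simp only [List.mem_cons, List.not_mem_nil, or_false] at h
    rcases h with h | h | h
    · exact IsPGroup.of_card (n := 3) h
    · exact IsPGroup.of_card (n := 4) h
    · exact IsPGroup.of_card (n := 6) h
  have hne : ∃ a b : G, a * b ≠ b * a := by
    by_contra h
    push Not at h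
    exact hG ⟨⟨h⟩⟩
  rcases Cfsg.Agent.S0348.result hne hCIT with ⟨F, _, _, hq, ⟨e⟩⟩ | ⟨F, _, _, hq, ⟨e⟩⟩ | hS
  · have hc := Nat.card_congr e.toEquiv
    rw [hcard] at hc
    have hmul := Linear.card_PSL_two_mul (F := F)
    rw [← hc] at hmul
    have hg : Nat.gcd 2 (Fintype.card F - 1) ≤ 2 := Nat.gcd_le_left _ (by norm_num)
    have h1 : 0 < Nat.gcd 2 (Fintype.card F - 1) := Nat.gcd_pos_of_pos_left _ (by norm_num)
    have hle : Fintype.card F ≤ 40 := by
      by_contra hlt
      push Not at hlt
      have : 41 * (41 ^ 2 - 1) ≤ Fintype.card F * (Fintype.card F ^ 2 - 1) :=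
        Nat.mul_le_mul hlt (Nat.sub_le_sub_right (Nat.pow_le_pow_left hlt 2) 1)
      rw [← hmul] at this
      have h2 := Nat.mul_le_mul_right 20160 hg
      norm_num at this
      omega
    clear hq e hc
    generalize Fintype.card F = q at hle hmul
    revert hmul
    revert hle q
    decide +kernel
  · have h3 : ∀ a b : F, a ≠ 0 → b ≠ 0 → IsConj (e.symm (QuotientGroup.mk (uni a)))
        (e.symm (QuotientGroup.mk (uni b))) → a = b := fun a b ha hb h => by
      refine eq_of_isConj_uni hq ha hb ?_
      have := e.toMonoidHom.map_isConj h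
      simpa using this
    obtain ⟨t, ht⟩ := exists_prime_orderOf_dvd_card' (G := G) 2 (by rw [hcard]; norm_num)
    set S : Finset (ConjClasses G) := insert (ConjClasses.mk t)
      ((Finset.univ.filter fun a : F => a ≠ 0).image fun a =>
        ConjClasses.mk (e.symm (QuotientGroup.mk (uni a)))) with hS
    have ho : ∀ a : F, a ≠ 0 → orderOf (e.symm (QuotientGroup.mk (uni a))) = 4 := fun a ha => by
      rw [MulEquiv.orderOf_eq, orderOf_uni hq ha]
    have hcS : S.card = 4 := by
      rw [hS, Finset.card_insert_of_notMem, Finset.card_image_of_injOn, Finset.filter_ne',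
        Finset.card_erase_of_mem (Finset.mem_univ _), Finset.card_univ, hq]
      · intro a ha b hb hab
        simp only [Finset.coe_filter, Finset.mem_univ, true_and, Set.mem_ofPred_eq] at ha hb
        exact h3 a b ha hb (ConjClasses.mk_eq_mk_iff_isConj.1 hab)
      · simp only [Finset.mem_image, Finset.mem_filter, Finset.mem_univ, true_and, not_exists, not_and]
        intro a ha hat
        have := orderOf_eq_of_mk_eq hat
        rw [ho a ha, ht] at this
        norm_num at this
    have hle : S.card ≤ cnt L 4 := by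
      refine le_countP hL _ S fun C hC => ?_
      simp only [hS, Finset.mem_insert, Finset.mem_image, Finset.mem_filter, Finset.mem_univ,
        true_and] at hC
      simp only [beq_iff_eq]
      rcases hC with rfl | ⟨a, ha, rfl⟩ <;> rw [cn_mk, mem_nontriv]
      · exact ⟨ne_one_of_orderOf ht (by norm_num), Nat.mod_eq_zero_of_dvd (hinv t ht)⟩
      · exact ⟨ne_one_of_orderOf (ho a ha) (by norm_num),
          Nat.mod_eq_zero_of_dvd ((ho a ha) ▸ orderOf_dvd_cn _)⟩
    omega
  · obtain ⟨-, m, hm, hc⟩ := hS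
    rw [hcard] at hc
    have h8 : 8 ≤ 2 ^ (2 * m + 1) :=
      le_trans (by norm_num : 8 ≤ 2 ^ 3) (Nat.pow_le_pow_right (by norm_num) (by omega))
    have : 8 ^ 2 * (8 ^ 2 + 1) * (8 - 1) ≤
        (2 ^ (2 * m + 1)) ^ 2 * ((2 ^ (2 * m + 1)) ^ 2 + 1) * (2 ^ (2 * m + 1) - 1) :=
      Nat.mul_le_mul (Nat.mul_le_mul (Nat.pow_le_pow_left h8 2)
        (Nat.add_le_add_right (Nat.pow_le_pow_left h8 2) 1)) (Nat.sub_le_sub_right h8 1)
    omega

/-- The main theorem. -/
theorem main [IsSimpleGroup G] (hG : ¬ IsMulCommutative G) (hk : Nat.card (ConjClasses G) = 9) :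
    (∃ (F : Type) (_ : Field F) (_ : Fintype F), Fintype.card F = 8 ∧
        Nonempty (G ≃* Matrix.ProjectiveSpecialLinearGroup (Fin 2) F)) ∨
      Nonempty (G ≃* Matrix.ProjectiveSpecialLinearGroup (Fin 2) (ZMod 13)) ∨
      Nonempty (G ≃* ↥(alternatingGroup (Fin 7))) := by
  by_cases hfive : ∀ g : G, g ≠ 1 → 5 ≤ Nat.card (Subgroup.centralizer ({g} : Set G))
  · classical
    set L : List ℕ := ((cents G).sort (· ≤ ·)).reverse with hLdef
    have hL : (L : Multiset ℕ) = cents G := by
      rw [hLdef, Multiset.coe_reverse, Multiset.sort_eq]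
    have hlen : L.length = 8 := by
      have h1 : (L : Multiset ℕ).card = (nontriv G).card := by rw [hL, cents, Multiset.card_map, Finset.card_def]
      have h2 := card_nontriv (G := G)
      rw [Multiset.coe_card] at h1
      omega
    have hsort : L.Pairwise fun a b => b ≤ a := by
      rw [hLdef, List.pairwise_reverse]
      exact Multiset.pairwise_sort _ _
    have hP := prof hG hk hfive hL
    have ht := target_of_srch 8 [] 1 1 5 srch_five (Nat.coprime_one_left 1) one_pos L hlen
      hP.five_le (by simpa using hsort) (by simpa using hP)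
      (by simpa using sum_recip hL)
    simp only [List.append_nil, target, Bool.or_eq_true, Bool.and_eq_true, List.contains_iff_mem,
      beq_iff_eq, List.all_eq_true, bne_iff_ne, ne_eq] at ht
    rcases ht with ht | ⟨⟨hc, h4⟩, hcnt⟩
    · simp only [List.mem_cons, List.not_mem_nil, or_false] at ht
      haveI : Fact (Nat.Prime 13) := ⟨by norm_num⟩
      rcases ht with h | h | h | h | h
      · exact absurd hk (ne_nine_of_card (Or.inl h))
      · exact absurd hk (ne_nine_of_card (Or.inr h))
      · letI := Fintype.ofFinite (GaloisField 2 3)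
        have hF := Classification.SmallGraph.galois_card 3 (by norm_num)
        exact Or.inl ⟨GaloisField 2 3, inferInstance, inferInstance, hF, Cfsg.Agent.S1011.result h hF⟩
      · exact Or.inr (Or.inl (Cfsg.Agent.S0498.result 13 (Or.inr rfl) (by rw [h]; rfl) (ZMod.card 13)))
      · exact Or.inr (Or.inr (Cfsg.Agent.S0984.result h))
    · exact (false_of_20160 hG hL hc
        (fun y hy h => (h4 y hy).resolve_left (fun hne => hne (Nat.mod_eq_zero_of_dvd h))) hcnt).elim
  · push Not at hfive
    obtain ⟨w, -, hw⟩ := hfive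
    have hcyc : ¬ IsCyclic G := fun h => hG inferInstance
    rcases Cfsg.Agent.S3280.result hcyc w (by omega) with ⟨⟨e⟩⟩ | ⟨⟨e⟩⟩ | h7 | ⟨F, _, _, hF, ⟨e⟩⟩
    · rw [card_classes_congr e, Cfsg.Agent.S3669.card_conjClasses_five] at hk
      norm_num at hk
    · refine absurd hk (ne_nine_of_card (Or.inr ?_))
      rw [Nat.card_congr e.toEquiv, nat_card_alternatingGroup]
      simp [Nat.factorial]
    · exact Or.inr (Or.inr h7)
    · have := card_classes_psl_lt (F := F) (Or.inl hF)
      rw [card_classes_congr e] at hk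
      omega

end CfsgLib.ClassNumberNine
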