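import Cfsg.Agent.ClassNumberNine.Complete
import Cfsg.Agent.ClassNumberNine.Centralizers
import Cfsg.Agent.Classification.OrderMid.Main
import Cfsg.Agent.Classification.OrderRange.Cert
import Cfsg.Agent.S4092
import Mathlib.GroupTheory.ClassEquation

/-!
# The profile of centraliser orders of a simple group
-/

set_option autoImplicit false
set_option linter.style.haveILetI false

namespace CfsgLib.ClassNumberNine

open Subgroup

variable {G : Type*} [Group G]

/-- The centraliser order of a class. -/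
noncomputable def cn (C : ConjClasses G) : ℕ := Nat.card (centralizer ({C.out} : Set G))

theorem cn_mk [Finite G] (g : G) :
    cn (ConjClasses.mk g) = Nat.card (centralizer ({g} : Set G)) :=
  card_centralizer_eq_of_isConj'
    (ConjClasses.mk_eq_mk_iff_isConj.1 (Quotient.out_eq (ConjClasses.mk g)))

/-- The nonidentity classes. -/
noncomputable def nontriv (G : Type*) [Group G] [Finite G] : Finset (ConjClasses G) :=
  haveI : Finite (ConjClasses G) := Quotient.finite _
  letI := Classical.decEq (ConjClasses G)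
  letI := Fintype.ofFinite (ConjClasses G)
  Finset.univ.erase (ConjClasses.mk 1)

variable [Finite G]

theorem mem_nontriv {g : G} : ConjClasses.mk g ∈ nontriv G ↔ g ≠ 1 := by
  simp [nontriv, ConjClasses.mk_eq_mk_iff_isConj, isConj_one_left]

theorem mem_nontriv' {C : ConjClasses G} : C ∈ nontriv G ↔ C ≠ ConjClasses.mk 1 := by
  simp [nontriv]

/-- The centraliser orders of the nonidentity classes. -/
noncomputable def cents (G : Type*) [Group G] [Finite G] : Multiset ℕ := (nontriv G).val.map cn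

theorem card_nontriv : (nontriv G).card + 1 = Nat.card (ConjClasses G) := by
  classical
  haveI : Finite (ConjClasses G) := Quotient.finite _
  letI := Fintype.ofFinite (ConjClasses G)
  rw [Nat.card_eq_fintype_card, ← Finset.card_univ,
    ← Finset.card_erase_add_one (Finset.mem_univ (ConjClasses.mk (1 : G)))]
  congr 2
  ext C
  simp [nontriv]

variable {L : List ℕ}

theorem mem_list (hL : (L : Multiset ℕ) = cents G) {x : ℕ} :
    x ∈ L ↔ ∃ g : G, g ≠ 1 ∧ Nat.card (centralizer ({g} : Set G)) = x := by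
  rw [← Multiset.mem_coe, hL, cents, Multiset.mem_map]
  constructor
  · rintro ⟨C, hC, rfl⟩
    obtain ⟨g, rfl⟩ := C.exists_rep
    exact ⟨g, mem_nontriv.1 hC, (cn_mk g).symm⟩
  · rintro ⟨g, hg, rfl⟩
    exact ⟨_, mem_nontriv.2 hg, cn_mk g⟩

theorem countP_eq (hL : (L : Multiset ℕ) = cents G) (f : ℕ → Bool) :
    L.countP f = ((nontriv G).filter fun C => f (cn C) = true).card := by
  have h : Multiset.countP (fun y => f y = true) (L : Multiset ℕ) = L.countP f := by simp
  rw [← h, hL, cents, Multiset.countP_map, Finset.card_def, Finset.filter_val]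

theorem le_countP (hL : (L : Multiset ℕ) = cents G) (f : ℕ → Bool) (s : Finset (ConjClasses G))
    (h : ∀ C ∈ s, C ∈ nontriv G ∧ f (cn C) = true) : s.card ≤ L.countP f := by
  rw [countP_eq hL]
  exact Finset.card_le_card fun C hC => Finset.mem_filter.2 (h C hC)

theorem count_eq (hL : (L : Multiset ℕ) = cents G) (x : ℕ) :
    L.count x = ((nontriv G).filter fun C => cn C = x).card := by
  rw [List.count, countP_eq hL]
  congr 1
  ext C
  simp

theorem orderOf_eq_of_mk_eq {a b : G} (h : ConjClasses.mk a = ConjClasses.mk b) :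
    orderOf a = orderOf b := by
  obtain ⟨c, rfl⟩ := isConj_iff.1 (ConjClasses.mk_eq_mk_iff_isConj.1 h)
  exact (MulEquiv.orderOf_eq (MulAut.conj c) a).symm

theorem orderOf_dvd_cn (g : G) : orderOf g ∣ Nat.card (centralizer ({g} : Set G)) :=
  orderOf_dvd_card_centralizer (Commute.refl g)

theorem ne_one_of_orderOf {g : G} {n : ℕ} (h : orderOf g = n) (hn : n ≠ 1) : g ≠ 1 := by
  rintro rfl
  exact hn (h ▸ orderOf_one)

theorem out_ne_one {C : ConjClasses G} (hC : C ∈ nontriv G) : C.out ≠ 1 := fun e =>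
  mem_nontriv'.1 hC ((Quotient.out_eq C).symm.trans (congrArg ConjClasses.mk e))

theorem card_centralizer_lt [IsSimpleGroup G] (hG : ¬ IsMulCommutative G) {g : G} (hg : g ≠ 1) :
    Nat.card (centralizer ({g} : Set G)) < Nat.card G := by
  refine lt_of_le_of_ne (Subgroup.card_le_card_group _) fun h => hg ?_
  have := Subgroup.eq_top_of_card_eq _ h
  rw [CfsgLib.Small.centralizer_singleton_eq_top_iff, CfsgLib.Small.center_eq_bot_of_simple hG,
    mem_bot] at this
  exact this

/-! ### The class equation -/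

theorem sum_recip (hL : (L : Multiset ℕ) = cents G) :
    (1 : ℚ) = (L.map fun m : ℕ => (1 : ℚ) / (m : ℚ)).sum + 1 / (Nat.card G : ℚ) := by
  classical
  haveI : Finite (ConjClasses G) := Quotient.finite _
  letI := Fintype.ofFinite (ConjClasses G)
  letI := Fintype.ofFinite G
  have hN : (Nat.card G : ℚ) ≠ 0 := by exact_mod_cast (Nat.card_pos (α := G)).ne'
  have hC : ∀ C : ConjClasses G, (C.carrier.toFinset.card : ℚ) = Nat.card G * (1 / (cn C : ℚ)) := by
    intro C
    obtain ⟨g, rfl⟩ := C.exists_rep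
    have h := CfsgLib.Small.card_conjugates_mul_card_centralizer g
    have e : (ConjClasses.mk g).carrier.toFinset.card = Nat.card {y : G // IsConj g y} := by
      rw [Set.toFinset_card, ← Nat.card_eq_fintype_card]
      exact Nat.card_congr (Equiv.subtypeEquivRight fun y => by
        rw [ConjClasses.mem_carrier_iff_mk_eq, ConjClasses.mk_eq_mk_iff_isConj, isConj_comm])
    have hc : (Nat.card (centralizer ({g} : Set G)) : ℚ) ≠ 0 := by
      exact_mod_cast (Nat.card_pos (α := centralizer ({g} : Set G))).ne'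
    rw [cn_mk, e, mul_one_div, eq_div_iff hc]
    exact_mod_cast h
  have hsum : (Nat.card G : ℚ) = ∑ C : ConjClasses G, (Nat.card G : ℚ) * (1 / (cn C : ℚ)) := by
    rw [← Finset.sum_congr rfl fun C _ => hC C, ← Nat.cast_sum, sum_conjClasses_card_eq_card,
      Nat.card_eq_fintype_card]
  rw [← Finset.mul_sum, ← Finset.add_sum_erase _ _ (Finset.mem_univ (ConjClasses.mk (1 : G))),
    cn_mk, show centralizer ({(1 : G)} : Set G) = ⊤ from
      (CfsgLib.Small.centralizer_singleton_eq_top_iff).2 (one_mem _), Subgroup.card_top] at hsum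
  have hL' : (L.map fun m : ℕ => (1 : ℚ) / (m : ℚ)).sum =
      ∑ C ∈ Finset.univ.erase (ConjClasses.mk (1 : G)), (1 : ℚ) / (cn C : ℚ) := by
    rw [← Multiset.sum_coe, ← Multiset.map_coe, hL, cents, Multiset.map_map]
    refine Finset.sum_congr ?_ fun _ _ => rfl
    ext C
    simp [nontriv]
  rw [hL', add_comm]
  refine (mul_left_cancel₀ hN ?_)
  rw [mul_one]
  exact hsum

/-! ### Prime entries -/

theorem primeEntry [IsSimpleGroup G] (hG : ¬ IsMulCommutative G)
    (hL : (L : Multiset ℕ) = cents G) {k : ℕ} (hk : Nat.card (ConjClasses G) = k) {x : ℕ}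
    (hx : x ∈ L) (hp : x.Prime) :
    (∀ y ∈ L, x ∣ y → y = x) ∧ primeOK k L x = true := by
  classical
  haveI : Fact x.Prime := ⟨hp⟩
  obtain ⟨g, hg, hgx⟩ := (mem_list hL).1 hx
  have hgo : orderOf g = x :=
    (hp.eq_one_or_self_of_dvd _ (hgx ▸ orderOf_dvd_cn g)).resolve_left
      (by simpa [orderOf_eq_one_iff] using hg)
  have h : SelfCentralizing.Hyp G x g := ⟨hp, hgo, (Subgroup.eq_of_le_of_card_ge
    (zpowers_le.2 (mem_centralizer_singleton_iff.2 rfl)) (by rw [Nat.card_zpowers, hgx, hgo])).symm⟩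
  have hcn : ∀ a : G, orderOf a = x → Nat.card (centralizer ({a} : Set G)) = x := fun a ha => by
    rw [h.centralizer_of_order ha, Nat.card_zpowers, ha]
  have hother : ∀ a : G, a ≠ 1 → x ∣ Nat.card (centralizer ({a} : Set G)) → orderOf a = x := by
    intro a ha hd
    obtain ⟨z, hz⟩ := exists_prime_orderOf_dvd_card' x hd
    rw [← Subgroup.orderOf_coe] at hz
    have hmem : a ∈ centralizer ({(z : G)} : Set G) :=
      mem_centralizer_singleton_iff.2 (mem_centralizer_singleton_iff.1 z.2).symm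
    rw [h.centralizer_of_order hz] at hmem
    have hd' : orderOf a ∣ x := hz ▸ orderOf_dvd_of_mem_zpowers hmem
    exact (hp.eq_one_or_self_of_dvd _ hd').resolve_left (by simpa [orderOf_eq_one_iff] using ha)
  refine ⟨fun y hy hd => ?_, ?_⟩
  · obtain ⟨a, ha, rfl⟩ := (mem_list hL).1 hy
    exact hcn a (hother a ha hd)
  haveI : Finite (ConjClasses G) := Quotient.finite _
  letI := Fintype.ofFinite (ConjClasses G)
  have ht : Nat.card {C : ConjClasses G // ∃ a ∈ C.carrier, orderOf a = x} = L.count x := by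
    rw [count_eq hL, Nat.card_eq_fintype_card, Fintype.card_subtype]
    congr 1
    ext C
    obtain ⟨a, rfl⟩ := C.exists_rep
    simp only [Finset.mem_filter, Finset.mem_univ, true_and, ConjClasses.mem_carrier_iff_mk_eq,
      mem_nontriv, cn_mk]
    constructor
    · rintro ⟨b, hb, hbo⟩
      have hao : orderOf a = x := (orderOf_eq_of_mk_eq hb).symm.trans hbo
      exact ⟨ne_one_of_orderOf hao hp.one_lt.ne', hcn a hao⟩
    · rintro ⟨ha, hax⟩
      exact ⟨a, rfl, hother a ha hax.symm.dvd⟩
  have het := h.classes_mul_relIndex ht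
  have hle := relIndex_add_le h
  rw [ht, hk] at hle
  have he : (zpowers g).relIndex h.norm ≠ 1 := by
    intro he
    obtain ⟨K, hK, hKi, hKc⟩ := h.exists_complement he
    rcases hK.eq_bot_or_eq_top with rfl | rfl
    · rw [index_bot] at hKi
      exact CfsgLib.Small.not_isPGroup_of_simple hG x (IsPGroup.of_card (n := 1) (by rw [hKi, pow_one]))
    · rw [index_top] at hKi
      exact hp.one_lt.ne hKi
  set e := (zpowers g).relIndex h.norm
  set t := L.count x
  have ht0 : 0 < t := List.count_pos_iff.2 hx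
  have he0 : 0 < e := by
    have := hp.two_le
    rcases Nat.eq_zero_or_pos e with h0 | h0
    · rw [h0, mul_zero] at het; omega
    · exact h0
  have hdiv : (x - 1) / t = e := by rw [← het, Nat.mul_div_cancel_left _ ht0]
  unfold primeOK
  simp only [Bool.and_eq_true, beq_iff_eq, decide_eq_true_eq]
  refine ⟨⟨by rw [← het, Nat.mul_mod_right], ?_⟩, ?_⟩
  · rw [← het]
    show 2 * t ≤ t * e
    have : 2 ≤ e := by omega
    calc 2 * t = t * 2 := mul_comm _ _
      _ ≤ t * e := Nat.mul_le_mul_left _ this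
  · show (x - 1) / t + t ≤ k
    rw [hdiv]
    exact hle

theorem le_nineteen {x : ℕ} (hp : x.Prime) (h : primeOK 9 L x = true) : x ≤ 19 := by
  unfold primeOK at h
  simp only [Bool.and_eq_true, beq_iff_eq, decide_eq_true_eq] at h
  obtain ⟨⟨h1, h2⟩, h3⟩ := h
  generalize L.count x = t at h1 h2 h3
  have hx1 := hp.two_le
  have ht : t * ((x - 1) / t) = x - 1 := Nat.mul_div_cancel' (Nat.dvd_of_mod_eq_zero h1)
  generalize (x - 1) / t = e at ht h3
  have : x - 1 ≤ 20 := by
    have ht9 : t ≤ 9 := by omega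
    interval_cases t <;> omega
  by_contra hx
  have hx21 : x ≤ 21 := by omega
  interval_cases x <;> norm_num at hp

/-! ### Composite entries -/

theorem compositeEntry (hL : (L : Multiset ℕ) = cents G) {x : ℕ} (hx : x ∈ L) :
    ∃ r, r.Prime ∧ r ∣ x ∧ ∀ q, q.Prime → q ∣ x → q ≠ r → triple L (r * q) = true := by
  classical
  obtain ⟨g, hg, rfl⟩ := (mem_list hL).1 hx
  obtain ⟨r, hr, hrg⟩ := Nat.exists_prime_and_dvd (by simpa [orderOf_eq_one_iff] using hg : orderOf g ≠ 1)
  refine ⟨r, hr, hrg.trans (orderOf_dvd_cn g), fun q hq hqx hqr => ?_⟩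
  haveI : Fact q.Prime := ⟨hq⟩
  set a := g ^ (orderOf g / r) with ha
  have hao : orderOf a = r := orderOf_pow_orderOf_div (orderOf_pos g).ne' hrg
  obtain ⟨y, hy⟩ := exists_prime_orderOf_dvd_card' q hqx
  rw [← Subgroup.orderOf_coe] at hy
  have hyg : Commute (y : G) g := mem_centralizer_singleton_iff.1 y.2
  have hay : Commute a (y : G) := (hyg.pow_right _).symm
  have hzo : orderOf (a * (y : G)) = r * q := by
    rw [hay.orderOf_mul_eq_mul_orderOf_of_coprime (by
      rw [hao, hy]; exact (Nat.coprime_primes hr hq).2 (Ne.symm hqr)), hao, hy]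
  have hcop : q.Coprime r := (Nat.coprime_primes hq hr).2 hqr
  have hCz : ∀ {u : G}, Commute u (a * y) → Commute u a ∧ Commute u (y : G) := by
    intro u hu
    constructor
    · obtain ⟨m, hm⟩ := exists_pow_eq_self_of_coprime (x := a) (n := q) (by rw [hao]; exact hcop)
      have h1 : (a * (y : G)) ^ q = a ^ q := by
        rw [hay.mul_pow, ← hy, pow_orderOf_eq_one, mul_one]
      rw [← hm, ← h1]
      exact (hu.pow_right q).pow_right m
    · obtain ⟨m, hm⟩ := exists_pow_eq_self_of_coprime (x := (y : G)) (n := r) (by rw [hy]; exact hcop.symm)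
      have h1 : (a * (y : G)) ^ r = (y : G) ^ r := by
        rw [hay.mul_pow, ← hao, pow_orderOf_eq_one, one_mul]
      rw [← hm, ← h1]
      exact (hu.pow_right r).pow_right m
  have hle : ∀ v : G, (v = a ∨ v = y) →
      Nat.card (centralizer ({a * (y : G)} : Set G)) ∣ Nat.card (centralizer ({v} : Set G)) := by
    intro v hv
    refine card_dvd_of_le fun u hu => mem_centralizer_singleton_iff.2 ?_
    have := hCz (mem_centralizer_singleton_iff.1 hu : Commute u (a * y))
    rcases hv with rfl | rfl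
    · exact this.1.eq
    · exact this.2.eq
  set z := Nat.card (centralizer ({a * (y : G)} : Set G)) with hz
  have hrq : r * q ≠ 1 := fun h => hr.one_lt.ne' (Nat.eq_one_of_mul_eq_one_right h)
  have hne1 : ConjClasses.mk (a * (y : G)) ≠ ConjClasses.mk a := fun h => by
    have h' := orderOf_eq_of_mk_eq h
    rw [hzo, hao] at h'
    have := hq.two_le; have := hr.pos; nlinarith
  have hne2 : ConjClasses.mk (a * (y : G)) ≠ ConjClasses.mk (y : G) := fun h => by
    have h' := orderOf_eq_of_mk_eq h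
    rw [hzo, hy] at h'
    have := hr.two_le; have := hq.pos; nlinarith
  have hne3 : ConjClasses.mk a ≠ ConjClasses.mk (y : G) := fun h => by
    have h' := orderOf_eq_of_mk_eq h
    rw [hao, hy] at h'
    exact hqr h'.symm
  simp only [triple, List.any_eq_true, Bool.and_eq_true, beq_iff_eq, decide_eq_true_eq]
  refine ⟨z, (mem_list hL).2 ⟨_, ne_one_of_orderOf hzo hrq, rfl⟩,
    Nat.mod_eq_zero_of_dvd (hzo ▸ orderOf_dvd_cn _), ?_⟩
  refine le_trans ?_ (le_countP hL _
    {ConjClasses.mk (a * (y : G)), ConjClasses.mk a, ConjClasses.mk (y : G)} ?_)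
  · rw [Finset.card_insert_of_notMem (by simp [hne1, hne2]), Finset.card_pair hne3]
  · intro C hC
    simp only [Finset.mem_insert, Finset.mem_singleton] at hC
    simp only [beq_iff_eq]
    rcases hC with rfl | rfl | rfl <;> rw [cn_mk, mem_nontriv]
    · exact ⟨ne_one_of_orderOf hzo hrq, Nat.mod_self _⟩
    · exact ⟨ne_one_of_orderOf hao hr.one_lt.ne', Nat.mod_eq_zero_of_dvd (hle _ (Or.inl rfl))⟩
    · exact ⟨ne_one_of_orderOf hy hq.one_lt.ne', Nat.mod_eq_zero_of_dvd (hle _ (Or.inr rfl))⟩

/-! ### Entries equal to six -/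

theorem powers_of_six {h : G} (ho : orderOf h = 6) :
    orderOf (h ^ 3) = 2 ∧ orderOf (h ^ 2) = 3 ∧ h ^ 3 * (h ^ 2) ^ 2 = h ∧
      Commute (h ^ 2) (h ^ 3) := by
  refine ⟨?_, ?_, ?_, (Commute.refl h).pow_pow 2 3⟩
  · rw [orderOf_pow, ho]; rfl
  · rw [orderOf_pow, ho]; rfl
  · rw [← pow_mul, ← pow_add, show 3 + 2 * 2 = 6 + 1 from rfl, pow_succ, ← ho, pow_orderOf_eq_one, one_mul]

theorem card_inf_dvd_six {h : G} (ho : orderOf h = 6)
    (hc : Nat.card (centralizer ({h} : Set G)) = 6) :
    Nat.card ↥(centralizer ({h ^ 3} : Set G) ⊓ centralizer ({h ^ 2} : Set G)) ∣ 6 ∧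
      Nat.card ↥(centralizer ({h ^ 2} : Set G) ⊓ centralizer ({h ^ 3} : Set G)) ∣ 6 := by
  obtain ⟨-, -, he, -⟩ := powers_of_six ho
  have hle : centralizer ({h ^ 3} : Set G) ⊓ centralizer ({h ^ 2} : Set G) ≤ centralizer {h} := by
    intro u hu
    have h1 : Commute u (h ^ 3) := mem_centralizer_singleton_iff.1 hu.1
    have h2 : Commute u (h ^ 2) := mem_centralizer_singleton_iff.1 hu.2
    have := h1.mul_right (h2.pow_right 2)
    rw [he] at this
    exact mem_centralizer_singleton_iff.2 this.eq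
  have := card_dvd_of_le hle
  rw [hc] at this
  exact ⟨this, by rwa [inf_comm]⟩

theorem exists_six (h4 : 4 ∣ Nat.card G) {g : G} (hg : g ≠ 1)
    (hc : Nat.card (centralizer ({g} : Set G)) = 6) :
    (orderOf g = 3 ∧ ∃ h : G, orderOf h = 6 ∧ Nat.card (centralizer ({h} : Set G)) = 6) ∨
      orderOf g = 6 := by
  have hd : orderOf g ∣ 6 := hc ▸ orderOf_dvd_cn g
  have h1 : orderOf g ≠ 1 := by simpa [orderOf_eq_one_iff] using hg
  have hle := Nat.le_of_dvd (by norm_num) hd
  have hpos := orderOf_pos g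
  rcases (by
    interval_cases hh : orderOf g <;> simp_all :
      orderOf g = 2 ∨ orderOf g = 3 ∨ orderOf g = 6) with h | h | h
  · haveI : Fact (Nat.Prime 2) := ⟨Nat.prime_two⟩
    have := sq_dvd_card_centralizer h h4
    rw [hc] at this
    norm_num at this
  · refine Or.inl ⟨h, ?_⟩
    haveI : Fact (Nat.Prime 2) := ⟨Nat.prime_two⟩
    obtain ⟨t, ht⟩ := exists_prime_orderOf_dvd_card' 2
      (show 2 ∣ Nat.card (centralizer ({g} : Set G)) by rw [hc]; norm_num)
    rw [← Subgroup.orderOf_coe] at ht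
    have htg : Commute g (t : G) := (mem_centralizer_singleton_iff.1 t.2 : (t : G) * g = g * t).symm
    have hzo : orderOf (g * (t : G)) = 6 := by
      rw [htg.orderOf_mul_eq_mul_orderOf_of_coprime (by rw [h, ht]; norm_num), h, ht]
    refine ⟨_, hzo, Nat.dvd_antisymm ?_ (hzo ▸ orderOf_dvd_cn _)⟩
    rw [← hc]
    refine card_dvd_of_le fun u hu => mem_centralizer_singleton_iff.2 ?_
    have hu' : Commute u (g * t) := mem_centralizer_singleton_iff.1 hu
    have e : (g * (t : G)) ^ 4 = g := by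
      rw [htg.mul_pow, show (4 : ℕ) = 3 + 1 from rfl, pow_succ, ← h, pow_orderOf_eq_one, one_mul,
        h, show (3 : ℕ) + 1 = 2 * 2 from rfl, pow_mul, ← ht, pow_orderOf_eq_one, one_pow, mul_one]
    have := hu'.pow_right 4
    rw [e] at this
    exact this.eq
  · exact Or.inr h

theorem six_facts {h : G} (h4 : 4 ∣ Nat.card G) (ho : orderOf h = 6)
    (hc : Nat.card (centralizer ({h} : Set G)) = 6) :
    12 ∣ Nat.card (centralizer ({h ^ 3} : Set G)) ∧
      ¬ 9 ∣ Nat.card (centralizer ({h ^ 3} : Set G)) ∧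
      6 ∣ Nat.card (centralizer ({h ^ 2} : Set G)) ∧
      ¬ 4 ∣ Nat.card (centralizer ({h ^ 2} : Set G)) := by
  haveI : Fact (Nat.Prime 2) := ⟨Nat.prime_two⟩
  haveI : Fact (Nat.Prime 3) := ⟨Nat.prime_three⟩
  obtain ⟨h2, h3, -, hcomm⟩ := powers_of_six ho
  obtain ⟨hi1, hi2⟩ := card_inf_dvd_six ho hc
  have hh : ∀ n : ℕ, 6 ∣ Nat.card (centralizer ({h ^ n} : Set G)) := fun n =>
    ho ▸ orderOf_dvd_card_centralizer ((Commute.refl h).pow_right n)
  refine ⟨?_, not_sq_dvd_of_six h3 hcomm hi1, hh 2, not_sq_dvd_of_six h2 hcomm.symm hi2⟩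
  have := sq_dvd_card_centralizer h2 h4
  have := hh 3
  omega

theorem isConj_or_inv {h h' : G} (ho : orderOf h = 6)
    (hc : Nat.card (centralizer ({h} : Set G)) = 6) (h4 : 4 ∣ Nat.card G) (ho' : orderOf h' = 6)
    (hcube : IsConj (h ^ 3) (h' ^ 3)) : IsConj h h' ∨ IsConj h⁻¹ h' := by
  haveI : Fact (Nat.Prime 3) := ⟨Nat.prime_three⟩
  obtain ⟨c, hc3⟩ := isConj_iff.1 hcube
  -- move `h'` so that the cubes agree
  set k := c⁻¹ * h' * c with hk
  have hkh : IsConj k h' := isConj_iff.2 ⟨c, by rw [hk]; group⟩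
  have hko : orderOf k = 6 := by
    rw [orderOf_eq_of_mk_eq (ConjClasses.mk_eq_mk_iff_isConj.2 hkh), ho']
  have hk3 : k ^ 3 = h ^ 3 := by
    rw [hk, show c⁻¹ * h' * c = MulAut.conj c⁻¹ h' by simp, ← map_pow, ← hc3]
    simp [mul_assoc]
  obtain ⟨-, h2, he, hcomm⟩ := powers_of_six ho
  obtain ⟨-, k2, ke, kcomm⟩ := powers_of_six hko
  rw [hk3] at ke kcomm
  obtain ⟨-, h9, -⟩ := six_facts h4 ho hc
  set H := centralizer ({h ^ 3} : Set G) with hH
  let a : H := ⟨h ^ 2, mem_centralizer_singleton_iff.2 hcomm.eq⟩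
  let b : H := ⟨k ^ 2, mem_centralizer_singleton_iff.2 kcomm.eq⟩
  have ha : orderOf a = 3 := by rw [← Subgroup.orderOf_coe]; exact h2
  have hb : orderOf b = 3 := by rw [← Subgroup.orderOf_coe]; exact k2
  obtain ⟨P, hP⟩ := (IsPGroup.of_card (n := 1) (by rw [Nat.card_zpowers, ha, pow_one]) :
    IsPGroup 3 ↥(zpowers a)).exists_le_sylow
  obtain ⟨Q, hQ⟩ := (IsPGroup.of_card (n := 1) (by rw [Nat.card_zpowers, hb, pow_one]) :
    IsPGroup 3 ↥(zpowers b)).exists_le_sylow
  have hPc : Nat.card (P : Subgroup H) = 3 := by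
    obtain ⟨n, hn⟩ := IsPGroup.iff_card.1 P.isPGroup'
    have h1 : 3 ∣ Nat.card (P : Subgroup H) := by
      have := card_dvd_of_le hP
      rwa [Nat.card_zpowers, ha] at this
    rw [hn] at h1 ⊢
    rcases n with _ | _ | n
    · simp at h1
    · rfl
    · exact absurd (((show 9 ∣ 3 ^ (n + 2) from ⟨3 ^ n, by ring⟩).trans hn.symm.dvd).trans
        (Subgroup.card_subgroup_dvd_card _)) h9
  have hPeq : (P : Subgroup H) = zpowers a :=
    (Subgroup.eq_of_le_of_card_ge hP (by rw [hPc, Nat.card_zpowers, ha])).symm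
  obtain ⟨u, hu⟩ := MulAction.exists_smul_eq H Q P
  have hmem : MulAut.conj u b ∈ zpowers a := by
    rw [← hPeq, ← hu]
    exact ⟨b, hQ (mem_zpowers b), rfl⟩
  classical
  rw [mem_zpowers_iff_mem_range_orderOf, ha] at hmem
  simp only [Finset.mem_image, Finset.mem_range] at hmem
  obtain ⟨i, hi, hib⟩ := hmem
  have hb1 : MulAut.conj u b ≠ 1 := fun e => by
    rw [← MulEquiv.orderOf_eq (MulAut.conj u), e, orderOf_one] at hb
    norm_num at hb
  have hu3 : Commute (u : G) (h ^ 3) := mem_centralizer_singleton_iff.1 u.2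
  have hi' : (u : G) * k ^ 2 * (u : G)⁻¹ = (h ^ 2) ^ i := by
    have := congrArg (Subtype.val) hib
    simpa [a, b] using this.symm
  have key : (u : G) * k * (u : G)⁻¹ = h ^ 3 * ((h ^ 2) ^ i) ^ 2 := by
    conv_lhs => rw [← ke]
    rw [show (u : G) * (h ^ 3 * (k ^ 2) ^ 2) * (u : G)⁻¹ =
      ((u : G) * h ^ 3) * (k ^ 2) ^ 2 * (u : G)⁻¹ by group, hu3.eq, ← hi', conj_pow]
    group
  interval_cases i
  · rw [pow_zero] at hib
    exact absurd hib.symm hb1
  · refine Or.inl ((isConj_iff.2 ⟨(u : G)⁻¹, ?_⟩).trans hkh)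
    rw [pow_one, he] at key
    rw [← key]
    group
  · refine Or.inr ((isConj_iff.2 ⟨(u : G)⁻¹, ?_⟩).trans hkh)
    have e : h ^ 3 * ((h ^ 2) ^ 2) ^ 2 = h⁻¹ := by
      apply eq_inv_of_mul_eq_one_left
      rw [← pow_mul, ← pow_mul, ← pow_add, ← pow_succ, show 3 + 2 * (2 * 2) + 1 = 6 * 2 from rfl,
        pow_mul, ← ho, pow_orderOf_eq_one, one_pow]
    rw [e] at key
    rw [← key]
    group

theorem six_ok (hL : (L : Multiset ℕ) = cents G) (h4 : 4 ∣ Nat.card G) :
    sixOK (Nat.card G) L = true := by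
  classical
  unfold sixOK
  simp only [Bool.or_eq_true, Bool.and_eq_true, beq_iff_eq, bne_iff_ne, ne_eq, decide_eq_true_eq]
  by_cases h0 : L.count 6 = 0
  · exact Or.inl h0
  right
  obtain ⟨g, hg, hgc⟩ := (mem_list hL).1 (List.count_pos_iff.1 (Nat.pos_of_ne_zero h0))
  obtain ⟨h, ho, hc⟩ : ∃ h : G, orderOf h = 6 ∧ Nat.card (centralizer ({h} : Set G)) = 6 := by
    rcases exists_six h4 hg hgc with ⟨-, hh⟩ | hh
    · exact hh
    · exact ⟨g, hh, hgc⟩
  obtain ⟨h12, -, hx6, hx4⟩ := six_facts h4 ho hc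
  obtain ⟨ho2, ho3, -, -⟩ := powers_of_six ho
  refine ⟨⟨?_, ?_⟩, ?_⟩
  · refine lt_of_lt_of_le Nat.zero_lt_one (le_trans ?_ (le_countP hL _ {ConjClasses.mk (h ^ 3)} ?_))
    · simp
    · simp only [Finset.mem_singleton, forall_eq, beq_iff_eq, cn_mk, mem_nontriv]
      exact ⟨ne_one_of_orderOf ho2 (by norm_num), Nat.mod_eq_zero_of_dvd h12⟩
  · refine le_trans ?_ (le_countP hL _ {ConjClasses.mk h, ConjClasses.mk (h ^ 2)} ?_)
    · rw [Finset.card_pair fun e => by
        have := orderOf_eq_of_mk_eq e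
        rw [ho, ho3] at this
        norm_num at this]
    · intro C hC
      simp only [Finset.mem_insert, Finset.mem_singleton] at hC
      simp only [Bool.and_eq_true, beq_iff_eq, bne_iff_ne, ne_eq]
      rcases hC with rfl | rfl <;> rw [cn_mk, mem_nontriv]
      · exact ⟨ne_one_of_orderOf ho (by norm_num), by rw [hc]; norm_num⟩
      · exact ⟨ne_one_of_orderOf ho3 (by norm_num), Nat.mod_eq_zero_of_dvd hx6,
          fun e => hx4 (Nat.dvd_of_mod_eq_zero e)⟩
  · by_cases h9 : Nat.card G % 9 = 0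
    swap
    · exact Or.inl h9
    right
    haveI : Fact (Nat.Prime 3) := ⟨Nat.prime_three⟩
    haveI : Finite (ConjClasses G) := Quotient.finite _
    have hsix : ∀ a : G, a ≠ 1 → Nat.card (centralizer ({a} : Set G)) = 6 → orderOf a = 6 := by
      intro a ha hac
      rcases exists_six h4 ha hac with ⟨h3, -⟩ | hh
      · have := sq_dvd_card_centralizer h3 (Nat.dvd_of_mod_eq_zero h9 : 3 ^ 2 ∣ Nat.card G)
        rw [hac] at this
        norm_num at this
      · exact hh
    rw [count_eq hL, countP_eq hL, mul_comm]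
    rw [mul_comm]
    refine Finset.card_le_mul_card_image_of_maps_to (f := fun C => ConjClasses.mk (C.out ^ 3))
      ?_ 2 ?_
    · intro C hC
      obtain ⟨hC1, hC6⟩ := Finset.mem_filter.1 hC
      have hout1 : C.out ≠ 1 := out_ne_one hC1
      have hoo := hsix _ hout1 hC6
      obtain ⟨p1, p2, -, -⟩ := six_facts h4 hoo hC6
      simp only [Finset.mem_filter, mem_nontriv, cn_mk, Bool.and_eq_true, beq_iff_eq, bne_iff_ne, ne_eq]
      exact ⟨ne_one_of_orderOf (powers_of_six hoo).1 (by norm_num), Nat.mod_eq_zero_of_dvd p1,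
        fun e => p2 (Nat.dvd_of_mod_eq_zero e)⟩
    · intro T _
      by_cases hne : ((Finset.filter (fun C => cn C = 6) (nontriv G)).filter
          fun C => ConjClasses.mk (C.out ^ 3) = T).Nonempty
      swap
      · simp [Finset.not_nonempty_iff_eq_empty.1 hne]
      obtain ⟨C, hC⟩ := hne
      simp only [Finset.mem_filter] at hC
      obtain ⟨⟨hC1, hC6⟩, hCT⟩ := hC
      have hCo : orderOf C.out = 6 := hsix _ (out_ne_one hC1) hC6
      refine le_trans (Finset.card_le_card (t := {ConjClasses.mk C.out, ConjClasses.mk C.out⁻¹}) ?_)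
        Finset.card_le_two
      intro D hD
      simp only [Finset.mem_filter] at hD
      obtain ⟨⟨hD1, hD6⟩, hDT⟩ := hD
      have hDo : orderOf D.out = 6 := hsix _ (out_ne_one hD1) hD6
      have hD' : D = ConjClasses.mk D.out := (Quotient.out_eq D).symm
      rcases isConj_or_inv hCo hC6 h4 hDo
        (ConjClasses.mk_eq_mk_iff_isConj.1 (hCT.trans hDT.symm)) with hh | hh
      · simp only [Finset.mem_insert, Finset.mem_singleton]
        exact Or.inl (hD'.trans (ConjClasses.mk_eq_mk_iff_isConj.2 hh).symm)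
      · simp only [Finset.mem_insert, Finset.mem_singleton]
        exact Or.inr (hD'.trans (ConjClasses.mk_eq_mk_iff_isConj.2 hh).symm)

/-! ### Elements of prime power order -/

theorem ppart_eq {p : ℕ} (hp : p.Prime) : ∀ f N : ℕ, N ≤ f → N ≠ 0 →
    ppart f p N = p ^ N.factorization p := by
  intro f
  induction f with
  | zero => intro N h h0; omega
  | succ f ih =>
    intro N hN h0
    rw [ppart]
    split_ifs with h
    · obtain ⟨m, rfl⟩ := Nat.dvd_of_mod_eq_zero h
      have hm : m ≠ 0 := fun e => h0 (by simp [e])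
      have hmf : m ≤ f := by
        have := hp.two_le
        nlinarith
      rw [Nat.mul_div_cancel_left _ hp.pos, ih m hmf hm, Nat.factorization_mul hp.ne_zero hm,
        Finsupp.add_apply, hp.factorization_self, pow_add, pow_one]
    · rw [Nat.factorization_eq_zero_of_not_dvd fun e => h (Nat.mod_eq_zero_of_dvd e), pow_zero]

theorem sylow_ok [IsSimpleGroup G] (hG : ¬ IsMulCommutative G)
    (hL : (L : Multiset ℕ) = cents G) : sylowOK (Nat.card G) L = true := by
  classical
  unfold sylowOK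
  simp only [List.all_eq_true, Bool.or_eq_true, bne_iff_ne, ne_eq, decide_eq_true_eq]
  intro p hp
  by_cases h : Nat.card G % (p * p) = 0
  swap
  · exact Or.inl h
  right
  have hpp : p.Prime := by
    simp only [List.mem_cons, List.not_mem_nil, or_false] at hp
    rcases hp with rfl | rfl | rfl | rfl | rfl | rfl <;> norm_num
  haveI : Fact p.Prime := ⟨hpp⟩
  have hsq : p ^ 2 ∣ Nat.card G := by rw [sq]; exact Nat.dvd_of_mod_eq_zero h
  obtain ⟨P⟩ : Nonempty (Sylow p G) := inferInstance
  have hP : ¬ (P : Subgroup G).Normal := fun hn => by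
    refine CfsgLib.Small.card_sylow_ne_one hG ((dvd_pow_self p two_ne_zero).trans hsq) ?_
    haveI := hn
    exact Nat.card_eq_one_iff_unique.2 ⟨Sylow.unique_of_normal P hn |>.instSubsingleton, ⟨P⟩⟩
  have h1 := Cfsg.Agent.S4092.result p P hP
  rw [P.card_eq_multiplicity] at h1
  rw [ppart_eq hpp _ _ le_rfl Nat.card_pos.ne']
  refine h1.trans ?_
  haveI : Finite (ConjClasses G) := Quotient.finite _
  letI := Fintype.ofFinite G
  letI := Fintype.ofFinite (ConjClasses G)
  set S := (nontriv G).filter fun C => (cn C % (p * p) == 0) = true with hS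
  have hsum : ((L.filter fun y => y % (p * p) == 0).map (Nat.card G / ·)).sum =
      ∑ C ∈ S, Nat.card G / cn C := by
    have hf : ((L.filter fun y => y % (p * p) == 0 : List ℕ) : Multiset ℕ) =
        (L : Multiset ℕ).filter fun y => (y % (p * p) == 0) = true := by
      rw [Multiset.filter_coe]
      simp only [Bool.decide_eq_true]
    rw [← Multiset.sum_coe, ← Multiset.map_coe, hf, hL, cents, Multiset.filter_map, Multiset.map_map]
    rfl
  rw [hsum, Nat.card_eq_fintype_card, Fintype.card_subtype]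
  refine (Finset.card_le_card (t := insert 1 (S.biUnion fun C => C.carrier.toFinset)) ?_).trans
    ((Finset.card_insert_le _ _).trans ?_)
  · intro g hg
    obtain ⟨j, hj⟩ := (Finset.mem_filter.1 hg).2
    rw [Finset.mem_insert, Finset.mem_biUnion]
    by_cases hg1 : g = 1
    · exact Or.inl hg1
    refine Or.inr ⟨ConjClasses.mk g, ?_, Set.mem_toFinset.2 ConjClasses.mem_carrier_mk⟩
    simp only [hS, Finset.mem_filter, mem_nontriv, cn_mk, beq_iff_eq]
    refine ⟨hg1, Nat.mod_eq_zero_of_dvd ?_⟩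
    rw [← sq]
    rcases j with _ | _ | j
    · rw [pow_zero, orderOf_eq_one_iff] at hj
      exact absurd hj hg1
    · rw [zero_add, pow_one] at hj
      exact sq_dvd_card_centralizer hj hsq
    · exact (show p ^ 2 ∣ orderOf g from hj ▸ Nat.pow_dvd_pow p (by omega)).trans (orderOf_dvd_cn g)
  · rw [add_comm]
    refine Nat.add_le_add_left (Finset.card_biUnion_le.trans (Finset.sum_le_sum fun C _ => ?_)) 1
    obtain ⟨g, rfl⟩ := C.exists_rep
    have h' := CfsgLib.Small.card_conjugates_mul_card_centralizer g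
    rw [cn_mk, ← h', Nat.mul_div_cancel _ Nat.card_pos, Set.toFinset_card, ← Nat.card_eq_fintype_card]
    exact le_of_eq (Nat.card_congr (Equiv.subtypeEquivRight fun y => by
      rw [ConjClasses.mem_carrier_iff_mk_eq, ConjClasses.mk_eq_mk_iff_isConj, isConj_comm]))

/-- The profile. -/
theorem prof [IsSimpleGroup G] (hG : ¬ IsMulCommutative G) (hk : Nat.card (ConjClasses G) = 9)
    (hfive : ∀ g : G, g ≠ 1 → 5 ≤ Nat.card (centralizer ({g} : Set G)))
    (hL : (L : Multiset ℕ) = cents G) : Prof 9 (Nat.card G) L where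
  five_le x hx := by
    obtain ⟨g, hg, rfl⟩ := (mem_list hL).1 hx
    exact hfive g hg
  dvd x hx := by
    obtain ⟨g, hg, rfl⟩ := (mem_list hL).1 hx
    exact Subgroup.card_subgroup_dvd_card _
  lt x hx := by
    obtain ⟨g, hg, rfl⟩ := (mem_list hL).1 hx
    exact card_centralizer_lt hG hg
  prime x hx hp := ⟨le_nineteen hp (primeEntry hG hL hk hx hp).2, primeEntry hG hL hk hx hp⟩
  composite x hx := compositeEntry hL hx
  six := six_ok hL (CfsgLib.Classification.OrderRange.four_dvd_card hG)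
  sylow := sylow_ok hG hL
  small := by
    rcases Nat.lt_or_ge (Nat.card G) 6000 with h | h
    · exact Or.inr (CfsgLib.Classification.OrderMid.orders_lt_six_thousand hG h)
    · exact Or.inl h

end CfsgLib.ClassNumberNine
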